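import Mathlib
import Cfsg.Prelude.Def_Transfer

/-!
Counting conjugacy classes of π-elements.

* `piClassCount σ G`: number of classes of `G` consisting of σ-elements.
* `piClassCount_insert_le`: `k_{insert q σ}(G) ≤ k_q(G) * (|G|_σ)`.
* `hasNormalPComplement_of_many_classes`: `(p+1)|P| < 2p k_p(G)` forces a normal p-complement and abelian P.
-/

set_option autoImplicit false

namespace Cfsg.Agent.ClassCount

open Subgroup
open scoped Pointwise

variable {G : Type*} [Group G] [Finite G]

/-- All prime divisors of the order of `x` lie in `σ`. -/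
def IsPiElt (σ : Finset ℕ) (x : G) : Prop := ∀ r : ℕ, r.Prime → r ∣ orderOf x → r ∈ σ

/-- The number of conjugacy classes consisting of σ-elements. -/
noncomputable def piClassCount (σ : Finset ℕ) (G : Type*) [Group G] : ℕ :=
  Nat.card {c : ConjClasses G // ∀ x ∈ c.carrier, ∀ r : ℕ, r.Prime → r ∣ orderOf x → r ∈ σ}

omit [Finite G] in
theorem isPiElt_conj {σ : Finset ℕ} {x : G} (g : G) (h : IsPiElt σ x) : IsPiElt σ (g * x * g⁻¹) := by
  have he : orderOf (g * x * g⁻¹) = orderOf x :=
    orderOf_injective (MulAut.conj g).toMonoidHom (MulAut.conj g).injective x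
  intro r hr hd
  rw [he] at hd
  exact h r hr hd

theorem forall_carrier_mk {σ : Finset ℕ} {x : G} (h : IsPiElt σ x) :
    ∀ y ∈ (ConjClasses.mk x).carrier, ∀ r : ℕ, r.Prime → r ∣ orderOf y → r ∈ σ := by
  intro y hy
  rw [ConjClasses.mem_carrier_iff_mk_eq, ConjClasses.mk_eq_mk_iff_isConj, isConj_comm, isConj_iff] at hy
  obtain ⟨g, rfl⟩ := hy
  exact isPiElt_conj g h

theorem isPiElt_singleton {q : ℕ} (hq : q.Prime) {x : G} :
    IsPiElt {q} x ↔ ∃ k : ℕ, orderOf x = q ^ k := by
  constructor
  · intro h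
    refine ⟨_, Nat.eq_prime_pow_of_unique_prime_dvd (orderOf_pos x).ne' ?_⟩
    intro d hd hdd
    simpa using h d hd hdd
  · rintro ⟨k, hk⟩ r hr hd
    rw [hk] at hd
    simpa using (Nat.prime_dvd_prime_iff_eq hr hq).mp (hr.dvd_of_dvd_pow hd)

theorem piClassCount_singleton {q : ℕ} (hq : q.Prime) :
    piClassCount {q} G = Nat.card {c : ConjClasses G // ∀ x ∈ c.carrier, ∃ k : ℕ, orderOf x = q ^ k} := by
  refine Nat.card_congr (Equiv.subtypeEquivRight fun c => forall₂_congr fun x _ => ?_)
  exact isPiElt_singleton hq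

theorem piClassCount_empty : piClassCount ∅ G ≤ 1 := by
  refine (Finite.card_le_one_iff_subsingleton).mpr ⟨fun a b => ?_⟩
  have key : ∀ c : {c : ConjClasses G // ∀ x ∈ c.carrier, ∀ r : ℕ, r.Prime → r ∣ orderOf x → r ∈ (∅ : Finset ℕ)},
      c.1 = ConjClasses.mk 1 := by
    rintro ⟨c, hc⟩
    obtain ⟨x, rfl⟩ := ConjClasses.exists_rep c
    have h1 : orderOf x = 1 := by
      by_contra hne
      obtain ⟨r, hr, hrd⟩ := Nat.exists_prime_and_dvd hne
      simpa using hc x ConjClasses.mem_carrier_mk r hr hrd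
    exact congrArg ConjClasses.mk (orderOf_eq_one_iff.mp h1)
  exact Subtype.ext ((key a).trans (key b).symm)

/-- A fibre-counting bound: if outside `F` every fibre of `f` has at least `m` elements. -/
theorem mul_card_range_le {α β : Type*} [Finite α] (f : α → β) (hf : Function.Surjective f)
    (m : ℕ) (F : Set α) (hm : ∀ a, a ∉ F → m ≤ Nat.card {b : α // f b = f a}) :
    m * Nat.card β ≤ Nat.card α + (m - 1) * Nat.card F := by
  classical
  have := Fintype.ofFinite α
  have : Finite β := Finite.of_surjective f hf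
  have := Fintype.ofFinite β
  rw [Nat.card_eq_fintype_card, Nat.card_eq_fintype_card, Nat.card_eq_fintype_card]
  rw [← Finset.card_univ (α := α),
    Finset.card_eq_sum_card_fiberwise (f := f) (s := Finset.univ) (t := Finset.univ) (fun x _ => Finset.mem_univ _)]
  have hF : Fintype.card F = ∑ b : β, ((Finset.univ.filter fun a => a ∈ F).filter fun a => f a = b).card := by
    rw [← Set.toFinset_card]
    refine Eq.trans ?_ (Finset.card_eq_sum_card_fiberwise (f := f) (t := Finset.univ) (fun x _ => Finset.mem_univ _))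
    congr 1
    ext; simp
  rw [hF, Finset.mul_sum, ← Finset.sum_add_distrib]
  calc m * Fintype.card β = ∑ _b : β, m := by simp [mul_comm]
    _ ≤ _ := Finset.sum_le_sum fun b _ => by
      obtain ⟨a, rfl⟩ := hf b
      by_cases ha : ∃ a', f a' = f a ∧ a' ∈ F
      · obtain ⟨a', h1, h2⟩ := ha
        have e1 : 1 ≤ (Finset.univ.filter fun x => f x = f a).card :=
          Finset.card_pos.mpr ⟨a', by simp [h1]⟩
        have e2 : 1 ≤ ((Finset.univ.filter fun x => x ∈ F).filter fun x => f x = f a).card :=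
          Finset.card_pos.mpr ⟨a', by simp [h1, h2]⟩
        refine le_trans ?_ (Nat.add_le_add e1 (Nat.le_mul_of_pos_right (m - 1) e2))
        omega
      · push Not at ha
        have := hm a (ha a rfl)
        rw [Nat.card_eq_fintype_card, Fintype.card_subtype] at this
        exact le_trans this (Nat.le_add_right _ _)

/-- The class of an element of a Sylow subgroup, as a class of p-elements. -/
noncomputable def sylowClassMap {p : ℕ} [Fact p.Prime] (P : Sylow p G) (x : (P : Subgroup G)) :
    {c : ConjClasses G // ∀ y ∈ c.carrier, ∃ k : ℕ, orderOf y = p ^ k} :=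
  ⟨ConjClasses.mk (x : G), by
    intro y hy
    rw [ConjClasses.mem_carrier_iff_mk_eq, ConjClasses.mk_eq_mk_iff_isConj, isConj_comm, isConj_iff] at hy
    obtain ⟨g, rfl⟩ := hy
    refine ((IsPGroup.iff_orderOf (p := p)).mp P.2 x).imp fun j hj => ?_
    rw [← hj, ← Subgroup.orderOf_coe]
    exact orderOf_injective (MulAut.conj g).toMonoidHom (MulAut.conj g).injective _⟩

theorem sylowClassMap_surjective {p : ℕ} [Fact p.Prime] (P : Sylow p G) :
    Function.Surjective (sylowClassMap P) := by
  rintro ⟨c, hc⟩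
  obtain ⟨x, rfl⟩ := ConjClasses.exists_rep c
  obtain ⟨k, hk⟩ := hc x ConjClasses.mem_carrier_mk
  have hx : IsPGroup p (Subgroup.zpowers x) := IsPGroup.of_card (n := k) (by rw [Nat.card_zpowers, hk])
  obtain ⟨Q, hQ⟩ := hx.exists_le_sylow
  obtain ⟨g, rfl⟩ := MulAction.exists_smul_eq G P Q
  have hx' : x ∈ (MulAut.conj g • (P : Subgroup G)) := hQ (Subgroup.mem_zpowers x)
  have hy := Subgroup.mem_pointwise_smul_iff_inv_smul_mem.mp hx'
  refine ⟨⟨_, hy⟩, Subtype.ext ?_⟩
  simp only [sylowClassMap]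
  rw [ConjClasses.mk_eq_mk_iff_isConj, isConj_iff]
  exact ⟨g, by simp [MulAut.smul_def, MulAut.inv_def, mul_assoc]⟩

theorem piClassCount_singleton_le {p : ℕ} [hp : Fact p.Prime] (P : Sylow p G) :
    piClassCount {p} G ≤ Nat.card (P : Subgroup G) := by
  rw [piClassCount_singleton hp.out]
  exact Nat.card_le_card_of_surjective _ (sylowClassMap_surjective P)

theorem card_conjClasses_pGroup_le {p : ℕ} [hp : Fact p.Prime] {P : Type*} [Group P] [Finite P]
    (hP : IsPGroup p P) :
    p * Nat.card (ConjClasses P) ≤ Nat.card P + (p - 1) * Nat.card (Subgroup.center P) := by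
  classical
  refine mul_card_range_le (ConjClasses.mk : P → ConjClasses P) ConjClasses.mk_surjective p
    (Subgroup.center P : Set P) fun a ha => ?_
  have hne : (Subgroup.centralizer ({a} : Set P)).index ≠ 1 := by
    intro h
    rw [Subgroup.index_eq_one] at h
    refine ha (Subgroup.mem_center_iff.mpr fun g => ?_)
    exact (Subgroup.mem_centralizer_singleton_iff.mp (h ▸ Subgroup.mem_top g))
  have he : (MulAction.stabilizer (ConjAct P) a).index = (Subgroup.centralizer ({a} : Set P)).index := by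
    rw [ConjAct.stabilizer_eq_centralizer]; rfl
  have hc : Nat.card {b : P // ConjClasses.mk b = ConjClasses.mk a} = Nat.card (MulAction.orbit (ConjAct P) a) :=
    Nat.card_congr (Equiv.subtypeEquivRight fun b => by
      rw [ConjAct.mem_orbit_conjAct, ConjClasses.mk_eq_mk_iff_isConj])
  rw [hc, Nat.card_coe_set_eq, ← MulAction.index_stabilizer, he]
  obtain ⟨k, hk⟩ := hP.index (Subgroup.centralizer ({a} : Set P))
  rw [hk] at hne ⊢
  exact Nat.le_self_pow (fun h => hne (by rw [h, pow_zero])) p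

theorem isMulCommutative_of_many_classes {p : ℕ} [hp : Fact p.Prime] {P : Type*} [Group P] [Finite P]
    (hP : IsPGroup p P) (h : (p + 1) * Nat.card P < 2 * p * Nat.card (ConjClasses P)) :
    IsMulCommutative P := by
  by_contra hna
  have h1 : p ^ 2 * Nat.card (Subgroup.center P) ≤ Nat.card P := by
    obtain ⟨k, hk⟩ := hP.index (Subgroup.center P)
    rw [← Subgroup.card_mul_index (Subgroup.center P), hk, mul_comm]
    refine Nat.mul_le_mul_left _ (Nat.pow_le_pow_right hp.out.pos ?_)
    by_contra hlt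
    apply hna
    have : IsCyclic (P ⧸ Subgroup.center P) := by
      rcases Nat.lt_succ_iff.mp (Nat.not_le.mp hlt) |>.lt_or_eq with h0 | h0
      · have : Subsingleton (P ⧸ Subgroup.center P) :=
          (Nat.card_eq_one_iff_unique.mp (by
            change (Subgroup.center P).index = 1
            rw [hk, Nat.lt_one_iff.mp h0, pow_zero])).1
        infer_instance
      · exact isCyclic_of_prime_card (p := p) (by
          change (Subgroup.center P).index = p
          rw [hk, h0, pow_one])
    exact MonoidHom.isMulCommutative_of_isCyclic_of_ker_le_center (QuotientGroup.mk' (Subgroup.center P)) (by simp)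
  have h2 := card_conjClasses_pGroup_le hP
  have h2p : 2 ≤ p := hp.out.two_le
  obtain ⟨a, rfl⟩ : ∃ a, p = a + 2 := ⟨p - 2, by omega⟩
  simp only [show a + 2 - 1 = a + 1 by omega] at h2
  have e2 := Nat.mul_le_mul_left (2 * (a + 2) ^ 2) h2
  have e3 := Nat.mul_le_mul_left (2 * (a + 1)) h1
  have e4 : (2 * (a + 2) ^ 2 + 2 * (a + 1)) * Nat.card P ≤ (a + 2) ^ 2 * ((a + 2 + 1) * Nat.card P) := by
    rw [← mul_assoc]
    exact Nat.mul_le_mul_right _ (by nlinarith)
  have e1 := Nat.mul_lt_mul_of_pos_left h (show 0 < (a + 2) ^ 2 by positivity)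
  nlinarith

/-- If `(p+1)|P| < 2p k_p(G)` then the Sylow subgroup is abelian and central in its normalizer. -/
theorem abelian_and_normalizer_le_centralizer {p : ℕ} [hp : Fact p.Prime] (P : Sylow p G)
    (h : (p + 1) * Nat.card (P : Subgroup G) < 2 * p * piClassCount {p} G) :
    IsMulCommutative (P : Subgroup G) ∧
      Subgroup.normalizer ((P : Subgroup G) : Set G) ≤ Subgroup.centralizer ((P : Subgroup G) : Set G) := by
  classical
  rw [piClassCount_singleton hp.out] at h
  have hab : IsMulCommutative (P : Subgroup G) := by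
    refine isMulCommutative_of_many_classes P.2 (lt_of_lt_of_le h (Nat.mul_le_mul_left _ ?_))
    let f : ConjClasses (P : Subgroup G) → {c : ConjClasses G // ∀ y ∈ c.carrier, ∃ k : ℕ, orderOf y = p ^ k} :=
      Quotient.lift (sylowClassMap P) fun a b (hab : IsConj a b) => Subtype.ext (by
        simp only [sylowClassMap]
        rw [ConjClasses.mk_eq_mk_iff_isConj]
        exact (P : Subgroup G).subtype.map_isConj hab)
    refine Nat.card_le_card_of_surjective f fun c => ?_
    obtain ⟨x, hx⟩ := sylowClassMap_surjective P c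
    exact ⟨ConjClasses.mk x, hx⟩
  refine ⟨hab, fun g hg => ?_⟩
  -- `F`: elements of `P` alone in their class.
  let F : Set (P : Subgroup G) := {a | ∀ b, sylowClassMap P b = sylowClassMap P a → b = a}
  have hF : Subgroup.closure F = ⊤ := by
    by_contra hne
    have hb := mul_card_range_le (sylowClassMap P) (sylowClassMap_surjective P) 2 F fun a ha => by
      simp only [F, Set.mem_ofPred_eq, not_forall, exists_prop] at ha
      obtain ⟨b, hb1, hb2⟩ := ha
      have : Nontrivial {x : (P : Subgroup G) // sylowClassMap P x = sylowClassMap P a} :=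
        ⟨⟨b, hb1⟩, ⟨a, rfl⟩, fun e => hb2 (congrArg Subtype.val e)⟩
      exact Finite.one_lt_card
    have hle : Nat.card F ≤ Nat.card (Subgroup.closure F) :=
      Nat.card_mono (Set.toFinite _) Subgroup.subset_closure
    obtain ⟨k, hk⟩ := P.2.index (Subgroup.closure F)
    have hpi : p ≤ (Subgroup.closure F).index := by
      rw [hk]
      refine Nat.le_self_pow (fun h0 => hne ?_) p
      rw [← Subgroup.index_eq_one, hk, h0, pow_zero]
    have hcm := Subgroup.card_mul_index (Subgroup.closure F)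
    nlinarith [Nat.mul_le_mul_left (Nat.card (Subgroup.closure F)) hpi]
  rw [Subgroup.mem_centralizer_iff]
  intro x hx
  suffices hsub : (⊤ : Subgroup (P : Subgroup G)) ≤ (Subgroup.centralizer ({g} : Set G)).subgroupOf P by
    exact (Subgroup.mem_centralizer_singleton_iff.mp (hsub (Subgroup.mem_top ⟨x, hx⟩)))
  rw [← hF, Subgroup.closure_le]
  intro a ha
  have hgP : g * (a : G) * g⁻¹ ∈ (P : Subgroup G) := (Subgroup.mem_normalizer_iff.mp hg _).mp a.2
  have := ha ⟨_, hgP⟩ (Subtype.ext (by
    simp only [sylowClassMap]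
    rw [ConjClasses.mk_eq_mk_iff_isConj, isConj_comm, isConj_iff]
    exact ⟨g, rfl⟩))
  have heq : g * (a : G) * g⁻¹ = a := congrArg Subtype.val this
  rw [SetLike.mem_coe, Subgroup.mem_subgroupOf, Subgroup.mem_centralizer_singleton_iff]
  rw [mul_inv_eq_iff_eq_mul] at heq
  exact heq.symm

theorem hasNormalPComplement_of_many_classes {p : ℕ} [hp : Fact p.Prime] (P : Sylow p G)
    (h : (p + 1) * Nat.card (P : Subgroup G) < 2 * p * piClassCount {p} G) :
    IsMulCommutative (P : Subgroup G) ∧
      ∃ N : Subgroup G, N.Normal ∧ N.IsComplement' (P : Subgroup G) := by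
  obtain ⟨hab, hNC⟩ := abelian_and_normalizer_le_centralizer P h
  exact ⟨hab, _, inferInstance, MonoidHom.ker_transferSylow_isComplement' P hNC⟩

/-- Splitting a σ∪{q}-element, and the resulting bound on class counts. -/
theorem piClassCount_insert_le_sum {q : ℕ} {σ : Finset ℕ} (hq : q.Prime) (hσ : q ∉ σ) :
    ∃ x : {c : ConjClasses G // ∀ y ∈ c.carrier, ∀ r : ℕ, r.Prime → r ∣ orderOf y → r ∈ ({q} : Finset ℕ)} → G,
      (∀ c, ConjClasses.mk (x c) = c.1) ∧
      ∀ [Fintype {c : ConjClasses G // ∀ y ∈ c.carrier, ∀ r : ℕ, r.Prime → r ∣ orderOf y → r ∈ ({q} : Finset ℕ)}],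
        piClassCount (insert q σ) G ≤ ∑ c, piClassCount σ (Subgroup.centralizer ({x c} : Set G)) := by
  classical
  let C := {c : ConjClasses G // ∀ x ∈ c.carrier, ∀ r : ℕ, r.Prime → r ∣ orderOf x → r ∈ ({q} : Finset ℕ)}
  have hrep : ∀ c : C, ∃ x, ConjClasses.mk x = c.1 := fun c => ConjClasses.exists_rep c.1
  choose x hx using hrep
  have hxq : ∀ c, IsPiElt {q} (x c) := fun c => c.2 _ (by rw [ConjClasses.mem_carrier_iff_mk_eq, hx])
  let D : C → Type _ := fun c => {d : ConjClasses (Subgroup.centralizer ({x c} : Set G)) //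
    ∀ y ∈ d.carrier, ∀ r : ℕ, r.Prime → r ∣ orderOf y → r ∈ σ}
  let g : (Σ c, D c) → ConjClasses G := fun cd => Quotient.lift
    (fun y : Subgroup.centralizer ({x cd.1} : Set G) => ConjClasses.mk (x cd.1 * (y : G)))
    (fun a b (hab : IsConj a b) => by
      obtain ⟨h, hh⟩ := isConj_iff.mp hab
      rw [ConjClasses.mk_eq_mk_iff_isConj, isConj_iff]
      refine ⟨h, ?_⟩
      have hc : (h : G) * x cd.1 = x cd.1 * h := Subgroup.mem_centralizer_singleton_iff.mp h.2
      have hh' : (h : G) * (a : G) * (h : G)⁻¹ = b := congrArg Subtype.val hh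
      rw [← hh', ← mul_assoc, hc]
      group) cd.2.1
  have hsurj : ∀ c : {c : ConjClasses G // ∀ y ∈ c.carrier, ∀ r : ℕ, r.Prime → r ∣ orderOf y → r ∈ insert q σ},
      ∃ cd, g cd = c.1 := by
    rintro ⟨c, hc⟩
    obtain ⟨z, rfl⟩ := ConjClasses.exists_rep c
    have hz := hc z ConjClasses.mem_carrier_mk
    obtain ⟨a, m, hm, hn⟩ := Nat.exists_eq_pow_mul_and_not_dvd (orderOf_pos z).ne' q hq.ne_one
    have hco : Nat.Coprime (q ^ a) m := Nat.Coprime.pow_left a (hq.coprime_iff_not_dvd.mpr hm)
    obtain ⟨e, he1, he2⟩ := Nat.chineseRemainder hco 1 0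
    obtain ⟨f, hf1, hf2⟩ := Nat.chineseRemainder hco 0 1
    have hu : IsPiElt {q} (z ^ e) := by
      intro r hr hrd
      have hd : orderOf (z ^ e) ∣ q ^ a := orderOf_dvd_of_pow_eq_one (by
        rw [← pow_mul, ← orderOf_dvd_iff_pow_eq_one, hn, mul_comm e]
        exact Nat.mul_dvd_mul_left _ (Nat.modEq_zero_iff_dvd.mp he2))
      simpa using (Nat.prime_dvd_prime_iff_eq hr hq).mp (hr.dvd_of_dvd_pow (hrd.trans hd))
    have huv : z ^ e * z ^ f = z := by
      have h1 : e + f ≡ 1 [MOD q ^ a * m] :=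
        (Nat.modEq_and_modEq_iff_modEq_mul hco).mp
          ⟨by simpa using he1.add hf1, by simpa using he2.add hf2⟩
      rw [← pow_add]
      conv_rhs => rw [← pow_one z]
      exact pow_eq_pow_iff_modEq.mpr (hn ▸ h1)
    let c0 : C := ⟨ConjClasses.mk (z ^ e), forall_carrier_mk hu⟩
    obtain ⟨k, hk⟩ := isConj_iff.mp (ConjClasses.mk_eq_mk_iff_isConj.mp (hx c0).symm)
    have hmem : k * z ^ f * k⁻¹ ∈ Subgroup.centralizer ({x c0} : Set G) := by
      rw [Subgroup.mem_centralizer_singleton_iff, ← hk]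
      calc k * z ^ f * k⁻¹ * (k * z ^ e * k⁻¹) = k * (z ^ f * z ^ e) * k⁻¹ := by group
        _ = k * (z ^ e * z ^ f) * k⁻¹ := by rw [(Commute.pow_pow_self z f e).eq]
        _ = k * z ^ e * k⁻¹ * (k * z ^ f * k⁻¹) := by group
    have hv : IsPiElt σ (⟨_, hmem⟩ : Subgroup.centralizer ({x c0} : Set G)) := by
      intro r hr hrd
      rw [← Subgroup.orderOf_coe] at hrd
      have he3 : orderOf (k * z ^ f * k⁻¹) = orderOf (z ^ f) :=
        orderOf_injective (MulAut.conj k).toMonoidHom (MulAut.conj k).injective _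
      rw [he3] at hrd
      have hd : orderOf (z ^ f) ∣ m := orderOf_dvd_of_pow_eq_one (by
        rw [← pow_mul, ← orderOf_dvd_iff_pow_eq_one, hn]
        exact Nat.mul_dvd_mul_right (Nat.modEq_zero_iff_dvd.mp hf1) _)
      have hrm := hrd.trans hd
      rcases Finset.mem_insert.mp (hz r hr (hn ▸ Dvd.dvd.mul_left hrm _)) with rfl | h
      · exact absurd hrm hm
      · exact h
    refine ⟨⟨c0, ⟨ConjClasses.mk ⟨_, hmem⟩, forall_carrier_mk hv⟩⟩, ?_⟩
    change ConjClasses.mk (x c0 * (k * z ^ f * k⁻¹)) = _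
    rw [ConjClasses.mk_eq_mk_iff_isConj, isConj_comm, isConj_iff]
    refine ⟨k, ?_⟩
    rw [← hk]
    calc k * z * k⁻¹ = k * (z ^ e * z ^ f) * k⁻¹ := by rw [huv]
      _ = _ := by group
  choose s hs using hsurj
  have hinj : Function.Injective s := fun a b hab => Subtype.ext (by rw [← hs a, ← hs b, hab])
  refine ⟨x, hx, fun {_} => ?_⟩
  calc piClassCount (insert q σ) G ≤ Nat.card (Σ c, D c) := Nat.card_le_card_of_injective s hinj
    _ = ∑ c, Nat.card (D c) := Nat.card_sigma
    _ = _ := rfl

theorem piClassCount_insert_le {q : ℕ} {σ : Finset ℕ} (hq : q.Prime) (hσ : q ∉ σ) (B : ℕ)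
    (hB : ∀ x : G, piClassCount σ (Subgroup.centralizer ({x} : Set G)) ≤ B) :
    piClassCount (insert q σ) G ≤ piClassCount {q} G * B := by
  obtain ⟨x, -, h⟩ := piClassCount_insert_le_sum (G := G) hq hσ
  have := Fintype.ofFinite {c : ConjClasses G // ∀ y ∈ c.carrier, ∀ r : ℕ, r.Prime → r ∣ orderOf y → r ∈ ({q} : Finset ℕ)}
  calc piClassCount (insert q σ) G ≤ ∑ _c : {c : ConjClasses G // ∀ y ∈ c.carrier, ∀ r : ℕ, r.Prime → r ∣ orderOf y → r ∈ ({q} : Finset ℕ)}, B :=
      h.trans (Finset.sum_le_sum fun c _ => hB (x c))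
    _ = piClassCount {q} G * B := by
      rw [Finset.sum_const, Finset.card_univ, smul_eq_mul, ← Nat.card_eq_fintype_card]; rfl

/-- `k_σ(G) ≤ |G|_σ`. -/
theorem piClassCount_le_piPart (σ : Finset ℕ) (hσ : ∀ r ∈ σ, r.Prime) :
    ∀ (H : Type*) [Group H] [Finite H],
      piClassCount σ H ≤ σ.prod (fun r => r ^ (Nat.card H).factorization r) := by
  induction σ using Finset.induction with
  | empty => intro H _ _; simpa using piClassCount_empty
  | @insert q σ hqσ ih =>
    intro H _ _
    have hq : q.Prime := hσ q (Finset.mem_insert_self _ _)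
    have := Fact.mk hq
    let P : Sylow q H := default
    rw [Finset.prod_insert hqσ, ← P.card_eq_multiplicity]
    refine le_trans (piClassCount_insert_le hq hqσ _ fun x => le_trans
      (ih (fun r hr => hσ r (Finset.mem_insert_of_mem hr)) _) (Finset.prod_le_prod' fun r hr => ?_))
      (Nat.mul_le_mul_right _ (piClassCount_singleton_le P))
    have hr' := hσ r (Finset.mem_insert_of_mem hr)
    exact Nat.pow_le_pow_right hr'.pos ((Nat.factorization_le_iff_dvd Nat.card_pos.ne' Nat.card_pos.ne').mpr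
      (Subgroup.card_subgroup_dvd_card _) r)

/-- `k_π(G) ≤ k_q(G) |G|_{π-q}`. -/
theorem piClassCount_le_mul_erase {π : Finset ℕ} (hπ : ∀ r ∈ π, r.Prime) {q : ℕ} (hq : q ∈ π) :
    piClassCount π G ≤ piClassCount {q} G * (π.erase q).prod (fun r => r ^ (Nat.card G).factorization r) := by
  conv_lhs => rw [← Finset.insert_erase hq]
  refine piClassCount_insert_le (hπ q hq) (Finset.notMem_erase q π) _ fun x => le_trans
    (piClassCount_le_piPart _ (fun r hr => hπ r (Finset.mem_of_mem_erase hr)) _) (Finset.prod_le_prod' fun r hr => ?_)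
  exact Nat.pow_le_pow_right (hπ r (Finset.mem_of_mem_erase hr)).pos
    ((Nat.factorization_le_iff_dvd Nat.card_pos.ne' Nat.card_pos.ne').mpr (Subgroup.card_subgroup_dvd_card _) r)

end Cfsg.Agent.ClassCount
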