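import Mathlib

/-!
The orbit of `u` under conjugation by a subgroup `H`: `[H : C_H(u)]` is its size.
-/

namespace Cfsg.Agent.ClassCount

variable {G : Type*} [Group G]

/-- `[H : C_H(u)]` is the number of `H`-conjugates of `u`. -/
theorem relIndex_centralizer_singleton (H : Subgroup G) (u : G) :
    (Subgroup.centralizer ({u} : Set G)).relIndex H =
      ((fun h : G => h * u * h⁻¹) '' (H : Set G)).ncard := by
  rw [← Nat.card_coe_set_eq]
  have key : ∀ a b : H, a⁻¹ * b ∈ (Subgroup.centralizer ({u} : Set G)).subgroupOf H ↔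
      (a : G) * u * (a : G)⁻¹ = (b : G) * u * (b : G)⁻¹ := by
    intro a b
    rw [Subgroup.mem_subgroupOf, Subgroup.mem_centralizer_singleton_iff, Subgroup.coe_mul,
      Subgroup.coe_inv]
    constructor <;> intro h
    · calc (a : G) * u * (a : G)⁻¹
          = a * (u * ((a : G)⁻¹ * b)) * (b : G)⁻¹ := by group
        _ = a * (((a : G)⁻¹ * b) * u) * (b : G)⁻¹ := by rw [h]
        _ = _ := by group
    · calc (a : G)⁻¹ * b * u = (a : G)⁻¹ * ((b : G) * u * (b : G)⁻¹) * b := by group
        _ = (a : G)⁻¹ * ((a : G) * u * (a : G)⁻¹) * b := by rw [h]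
        _ = _ := by group
  let f : H ⧸ (Subgroup.centralizer ({u} : Set G)).subgroupOf H →
      ((fun h : G => h * u * h⁻¹) '' (H : Set G)) :=
    Quotient.lift (fun a : H => ⟨(a : G) * u * (a : G)⁻¹, a, a.2, rfl⟩) fun a b hab => by
      apply Subtype.ext
      exact (key a b).mp (QuotientGroup.leftRel_apply.mp hab)
  refine Nat.card_congr (Equiv.ofBijective f ⟨?_, ?_⟩)
  · intro x y hxy
    induction x using QuotientGroup.induction_on with
    | _ a => induction y using QuotientGroup.induction_on with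
      | _ b => exact QuotientGroup.eq.mpr ((key a b).mpr (congrArg Subtype.val hxy))
  · rintro ⟨_, h, hh, rfl⟩
    exact ⟨QuotientGroup.mk ⟨h, hh⟩, rfl⟩

end Cfsg.Agent.ClassCount
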