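import Cfsg.Agent.Lib.ClassCount.TwoPart
import Cfsg.Agent.Lib.ZStar.Main
import Cfsg.Agent.Lib.ZStar.FusionCentre
import Cfsg.Agent.Lib.Transfer.WeaklyClosed
import Cfsg.Agent.Lib.Transfer.Fusion
import Cfsg.Agent.Lib.Char.Descend
import Cfsg.Agent.Lib.Char.KernelSum
import Cfsg.Agent.Lib.PCore.Basic

/-!
# `2 k₂(G) = |P|`

* `three_dvd_card_sub`: `|P| ≡ k(P) (mod 3)` for a 2-group `P`.
* `Config`: the equality case of the bound `2 k₂ ≤ |P|`: an acting pair `(T, h)`, the classes meeting `T` and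
  the classes outside it.
* `exists_four_focal`: if `O(G) = 1`, the focal subgroup of `P` is a four-group `V`, permuted transitively by
  an element of odd order.
-/

set_option autoImplicit false
set_option linter.style.haveILetI false
set_option linter.unusedSectionVars false

namespace Cfsg.Agent.ClassCount.HalfSylow

open Subgroup

universe u

variable {G : Type u} [Group G] [Finite G]

/-- The number of classes of 2-elements. -/
noncomputable def k2 (G : Type u) [Group G] : ℕ :=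
  Nat.card {c : ConjClasses G // ∀ x ∈ c.carrier, ∃ k : ℕ, orderOf x = 2 ^ k}

/-- In a 2-group the class number is congruent to the order modulo 3. -/
theorem card_mod_three {P : Type u} [Group P] [Finite P] (hP : IsPGroup 2 P) :
    Nat.card P % 3 = Nat.card (ConjClasses P) % 3 := by
  classical
  haveI : Fact (Nat.Prime 2) := ⟨Nat.prime_two⟩
  have := Fintype.ofFinite P
  obtain ⟨n, hn⟩ := IsPGroup.iff_card.mp hP
  rw [← Char.sum_degree_sq, ← Char.card_irr, Finset.sum_nat_mod, Finset.sum_congr rfl (g := fun _ => 1)]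
  · simp [Nat.card_eq_fintype_card]
  · intro χ _
    have hd := Char.charDegree_dvd_card χ
    rw [Char.charDegree_eq_degree, hn] at hd
    obtain ⟨j, -, hj⟩ := (Nat.dvd_prime_pow Nat.prime_two).mp hd
    rw [hj, ← pow_mul, mul_comm, pow_mul, Nat.pow_mod]
    norm_num

theorem two_mul_card_ne {P : Type u} [Group P] [Finite P] (hP : IsPGroup 2 P) :
    2 * Nat.card (ConjClasses P) ≠ Nat.card P := by
  haveI : Fact (Nat.Prime 2) := ⟨Nat.prime_two⟩
  intro h
  obtain ⟨n, hn⟩ := IsPGroup.iff_card.mp hP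
  have h3 := card_mod_three hP
  have h2 : ∀ m : ℕ, 2 ^ m % 3 ≠ 0 := fun m h0 => by
    have := Nat.Prime.dvd_of_dvd_pow Nat.prime_three (Nat.dvd_of_mod_eq_zero h0)
    omega
  have := h2 n
  omega

theorem not_hasNormalTwoComplement (P : Sylow 2 G) (hO : pPrimeCore 2 G = ⊥)
    (hk : 2 * k2 G = Nat.card (P : Subgroup G)) : ¬ HasNormalPComplement 2 G := by
  intro h
  obtain ⟨N, hN, hNc⟩ := (Transfer.hasNormalPComplement_iff_exists P).mp h
  have hN1 : N = ⊥ := by
    haveI := hN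
    refine le_bot_iff.mp (hO ▸ PCore.le_pPrimeCore ?_)
    have h1 := P.not_dvd_index
    rw [hNc.index_eq_card] at h1
    exact Nat.coprime_comm.mp ((Nat.prime_two.coprime_iff_not_dvd).mpr h1)
  have htop : (P : Subgroup G) = ⊤ := by
    have := hNc.sup_eq_top
    rwa [hN1, bot_sup_eq] at this
  have hG : IsPGroup 2 G := IsPGroup.of_equiv (htop ▸ P.2 : IsPGroup 2 (⊤ : Subgroup G)) Subgroup.topEquiv
  refine two_mul_card_ne hG ?_
  rw [htop, Subgroup.card_top] at hk
  rw [← hk, k2]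
  congr 1
  exact (Nat.card_congr (Equiv.subtypeUnivEquiv fun c x _ => (IsPGroup.iff_orderOf (p := 2)).mp hG x)).symm

/-- A 2-element of a Sylow subgroup fused to nothing else in it is central when `O(G) = 1`. -/
theorem mem_center_of_isolated (hO : pPrimeCore 2 G = ⊥) (S : Sylow 2 G) {x : G} (hx : x ∈ (S : Subgroup G))
    (h : ∀ g : G, g * x * g⁻¹ ∈ (S : Subgroup G) → g * x * g⁻¹ = x) : x ∈ center G := by
  haveI : Fact (Nat.Prime 2) := ⟨Nat.prime_two⟩
  refine ZStar.mem_center_of_oddCore_eq_bot (ZStar.FusionCentre.inZStar_aux ZStar.zStarThm _ G rfl S x hx ?_) hO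
  intro y hy g hg
  obtain ⟨n, rfl⟩ := (mem_powers_iff_mem_zpowers (x := x)).mpr hy
  exact Transfer.conj_pow_eq_of_conj_eq S hx h n hg

/-- An element of odd order, a 2-element fixed by it. -/
theorem eq_one_of_conj_eq_mul {g t f : G} (hg : Odd (orderOf g)) (hf : ∃ k : ℕ, f ^ 2 ^ k = 1)
    (hgf : g * f * g⁻¹ = f) (h : g * t * g⁻¹ = t * f) : f = 1 := by
  have key : ∀ n : ℕ, g ^ n * t * (g ^ n)⁻¹ = t * f ^ n := by
    intro n
    induction n with
    | zero => simp
    | succ n ih =>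
      calc g ^ (n + 1) * t * (g ^ (n + 1))⁻¹ = g * (g ^ n * t * (g ^ n)⁻¹) * g⁻¹ := by group
        _ = (g * t * g⁻¹) * (g * f ^ n * g⁻¹) := by rw [ih]; group
        _ = t * f ^ (n + 1) := by rw [h, ← conj_pow, hgf, pow_succ']; group
  have h1 : f ^ orderOf g = 1 := by
    have := key (orderOf g)
    rw [pow_orderOf_eq_one] at this
    simpa using this
  obtain ⟨k, hk⟩ := hf
  exact orderOf_eq_one_iff.mp (Nat.eq_one_of_dvd_coprimes
    (Nat.Coprime.pow_left k (Nat.coprime_two_left.mpr hg))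
    (orderOf_dvd_of_pow_eq_one hk) (orderOf_dvd_of_pow_eq_one h1))

theorem fix_of_fix_sq {g x : G} (hg : Odd (orderOf g)) (h : g * (g * x * g⁻¹) * g⁻¹ = x) :
    g * x * g⁻¹ = x := by
  have h1 : g ^ 2 ∈ centralizer ({x} : Set G) := by
    rw [mem_centralizer_singleton_iff]
    calc g ^ 2 * x = g * (g * x * g⁻¹) * g⁻¹ * g ^ 2 := by rw [sq]; group
      _ = x * g ^ 2 := by rw [h]
  obtain ⟨m, hm⟩ := hg
  have h2 : g ∈ centralizer ({x} : Set G) := by
    have : (g ^ 2) ^ (m + 1) = g := by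
      rw [← pow_mul, show 2 * (m + 1) = orderOf g + 1 by omega, pow_succ, pow_orderOf_eq_one, one_mul]
    exact this ▸ pow_mem h1 _
  rw [mem_centralizer_singleton_iff] at h2
  rw [h2, mul_inv_cancel_right]

/-- The equality case. -/
structure Config (S : Sylow 2 G) (T : Subgroup G) (h : G) : Prop where
  le : T ≤ (S : Subgroup G)
  center_le : (S : Subgroup G) ⊓ centralizer ((S : Subgroup G) : Set G) ≤ T
  normal : h ∈ normalizer (T : Set G)
  odd : Odd (orderOf h)
  card_fix : 4 * Nat.card (T ⊓ centralizer ({h} : Set G) : Subgroup G) = Nat.card T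
  fix_eq : ∀ t ∈ T, h * t * h⁻¹ = t → ∀ g : G, g * t * g⁻¹ ∈ (S : Subgroup G) → g * t * g⁻¹ = t
  moved : ∀ t ∈ T, h * t * h⁻¹ ≠ t → ∀ g : G, g * t * g⁻¹ ∈ (S : Subgroup G) →
    g * t * g⁻¹ = t ∨ g * t * g⁻¹ = h * t * h⁻¹ ∨ g * t * g⁻¹ = h * (h * t * h⁻¹) * h⁻¹
  outside : ∀ x ∈ (S : Subgroup G), x ∉ T → ∀ y z : G, y ∈ (S : Subgroup G) → z ∈ (S : Subgroup G) →
    IsConj x y → IsConj x z → y ≠ x → z ≠ x → y = z

theorem four_mul_card_fix_le {T : Subgroup G} (hT : IsPGroup 2 T) {h : G} (hn : h ∈ normalizer (T : Set G))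
    (hodd : Odd (orderOf h)) (hc : h ∉ centralizer (T : Set G)) :
    4 * Nat.card (T ⊓ centralizer ({h} : Set G) : Subgroup G) ≤ Nat.card T := by
  haveI : Fact (Nat.Prime 2) := ⟨Nat.prime_two⟩
  set F := T ⊓ centralizer ({h} : Set G) with hF
  set F' := F.subgroupOf T with hF'
  have hmem : ∀ x : T, x ∈ F' ↔ h * (x : G) * h⁻¹ = x := fun x => by
    rw [hF', mem_subgroupOf, hF, mem_inf, mem_centralizer_singleton_iff, and_iff_right x.2,
      mul_inv_eq_iff_eq_mul, eq_comm]
  have hcard : Nat.card F' = Nat.card F :=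
    Nat.card_congr (Subgroup.subgroupOfEquivOfLe (inf_le_left : F ≤ T)).toEquiv
  obtain ⟨j, hj⟩ := hT.index F'
  rw [← hcard, ← Subgroup.card_mul_index F', mul_comm, hj]
  refine Nat.mul_le_mul_left _ (show 2 ^ 2 ≤ 2 ^ j from Nat.pow_le_pow_right (by norm_num) ?_)
  by_contra hlt
  apply hc
  rw [mem_centralizer_iff]
  intro t ht
  suffices h1 : h * t * h⁻¹ = t from (mul_inv_eq_iff_eq_mul.mp h1).symm
  by_contra hne
  interval_cases j
  · exact hne ((hmem ⟨t, ht⟩).mp (by rw [index_eq_one.mp hj]; exact mem_top _))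
  · have ha : h * t * h⁻¹ ∈ T := (mem_normalizer_iff.mp hn t).mp ht
    have htF : (⟨t, ht⟩ : T) ∉ F' := fun hh => hne ((hmem _).mp hh)
    have haF : (⟨_, ha⟩ : T) ∉ F' := fun hh => hne ((MulAut.conj h).injective ((hmem ⟨_, ha⟩).mp hh))
    have hm : (⟨t, ht⟩ : T)⁻¹ * ⟨_, ha⟩ ∈ F' := by
      rw [Subgroup.mul_mem_iff_of_index_two (by simpa using hj), inv_mem_iff]
      exact ⟨fun hh => absurd hh htF, fun hh => absurd hh haF⟩
    have h1 := (hmem _).mp hm
    simp only [Subgroup.coe_mul, Subgroup.coe_inv] at h1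
    obtain ⟨k, hk⟩ := hT ((⟨t, ht⟩ : T)⁻¹ * ⟨_, ha⟩)
    have hk' := congrArg Subtype.val hk
    simp only [SubmonoidClass.coe_pow, Subgroup.coe_mul, Subgroup.coe_inv, OneMemClass.coe_one] at hk'
    have := eq_one_of_conj_eq_mul hodd ⟨k, hk'⟩ h1 (t := t) (by group)
    exact hne (inv_mul_eq_one.mp this).symm

theorem exists_config (hO : pPrimeCore 2 G = ⊥) (P : Sylow 2 G)
    (hk : 2 * k2 G = Nat.card (P : Subgroup G)) :
    ∃ (S : Sylow 2 G) (T : Subgroup G) (h : G), Config S T h := by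
  classical
  haveI : Fact (Nat.Prime 2) := ⟨Nat.prime_two⟩
  obtain ⟨S, T, h, hTS, hZT, hn, hodd, hc⟩ :=
    exists_acting_of_not_hasNormalPComplement (not_hasNormalTwoComplement P hO hk)
  rw [P.card_eq_multiplicity, ← S.card_eq_multiplicity] at hk
  set F := T ⊓ centralizer ({h} : Set G) with hF
  have hF4 : 4 * Nat.card F ≤ Nat.card T := four_mul_card_fix_le (S.2.to_le hTS) hn hodd hc
  have hmem : ∀ x : G, x ∈ T → (x ∈ F ↔ h * x * h⁻¹ = x) := fun x hx => by
    rw [hF, mem_inf, mem_centralizer_singleton_iff, and_iff_right hx, mul_inv_eq_iff_eq_mul, eq_comm]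
  have := Fintype.ofFinite G
  let C := {c : ConjClasses G // ∀ y ∈ c.carrier, ∃ k : ℕ, orderOf y = 2 ^ k}
  have : Fintype C := Fintype.ofFinite C
  let f : ↥(S : Subgroup G) → C := sylowClassMap S
  let Fi : C → Finset (S : Subgroup G) := fun c => Finset.univ.filter fun x => f x = c
  let τ : C → Finset (S : Subgroup G) := fun c => (Fi c).filter fun x : ↥(S : Subgroup G) => (x : G) ∈ T
  let φ : C → Finset (S : Subgroup G) := fun c => (Fi c).filter fun x : ↥(S : Subgroup G) => (x : G) ∈ F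
  have hf : ∀ (x y : (S : Subgroup G)), f x = f y ↔ IsConj (x : G) (y : G) := fun x y => by
    exact Subtype.ext_iff.trans ConjClasses.mk_eq_mk_iff_isConj
  have hFi : ∀ (x y : (S : Subgroup G)), y ∈ Fi (f x) ↔ IsConj (x : G) (y : G) := fun x y => by
    simp only [Fi, Finset.mem_filter, Finset.mem_univ, true_and]
    rw [hf]; exact isConj_comm
  -- a moved element and two images
  have htri : ∀ t : (S : Subgroup G), (t : G) ∈ T → h * (t : G) * h⁻¹ ≠ t →
      ∃ a b : (S : Subgroup G), (a : G) = h * (t : G) * h⁻¹ ∧ (b : G) = h * (h * (t : G) * h⁻¹) * h⁻¹ ∧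
        a ∈ τ (f t) ∧ b ∈ τ (f t) ∧ a ≠ t ∧ b ≠ a ∧ b ≠ t := by
    intro t htT hne
    have ha := (mem_normalizer_iff.mp hn _).mp htT
    have hb := (mem_normalizer_iff.mp hn _).mp ha
    refine ⟨⟨_, hTS ha⟩, ⟨_, hTS hb⟩, rfl, rfl, ?_, ?_, ?_, ?_, ?_⟩
    · exact Finset.mem_filter.mpr ⟨(hFi _ _).mpr (isConj_iff.mpr ⟨h, rfl⟩), ha⟩
    · exact Finset.mem_filter.mpr ⟨(hFi _ _).mpr (isConj_iff.mpr ⟨h * h, by simp only; group⟩), hb⟩
    · exact fun e => hne (congrArg Subtype.val e)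
    · exact fun e => hne ((MulAut.conj h).injective (congrArg Subtype.val e))
    · exact fun e => hne (fix_of_fix_sq hodd (congrArg Subtype.val e))
  have hsub : ∀ c, φ c ⊆ τ c := fun c x hx => by
    simp only [φ, τ, Finset.mem_filter] at hx ⊢
    exact ⟨hx.1, (mem_inf.mp hx.2).1⟩
  have hτs : ∀ c, (τ c).card ≤ (Fi c).card := fun c => Finset.card_filter_le _ _
  -- the local bounds
  have hzero : ∀ c, τ c = ∅ → 2 ≤ (Fi c).card := by
    intro c hc0
    obtain ⟨x, rfl⟩ : ∃ x, f x = c := sylowClassMap_surjective S c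
    have hxT : (x : G) ∉ T := fun hxT => by
      have : x ∈ τ (f x) := Finset.mem_filter.mpr ⟨(hFi _ _).mpr (IsConj.refl _), hxT⟩
      rw [hc0] at this
      exact Finset.notMem_empty _ this
    obtain ⟨y, hy⟩ : ∃ y : (S : Subgroup G), (y : G) * x * (y : G)⁻¹ ≠ x := by
      by_contra hall
      push Not at hall
      exact hxT (hZT ⟨x.2, fun y hy => mul_inv_eq_iff_eq_mul.mp (hall ⟨y, hy⟩)⟩)
    exact Finset.one_lt_card.mpr ⟨x, (hFi _ _).mpr (IsConj.refl _), y * x * y⁻¹,
      (hFi _ _).mpr (isConj_iff.mpr ⟨(y : G), by simp⟩), fun e => hy (congrArg Subtype.val e).symm⟩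
  have hpos : ∀ c, τ c ≠ ∅ → 3 ≤ (τ c).card + 2 * (φ c).card := by
    intro c hc0
    obtain ⟨t, ht⟩ := Finset.nonempty_iff_ne_empty.mpr hc0
    rcases Finset.eq_empty_or_nonempty (φ c) with h0 | h1
    · have htT := (Finset.mem_filter.mp ht).2
      have htc : f t = c := (Finset.mem_filter.mp (Finset.mem_filter.mp ht).1).2
      have hne : h * (t : G) * h⁻¹ ≠ t := fun e => by
        have : t ∈ φ c := Finset.mem_filter.mpr ⟨(Finset.mem_filter.mp ht).1, (hmem _ htT).mpr e⟩
        rw [h0] at this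
        exact Finset.notMem_empty _ this
      subst htc
      obtain ⟨a, b, -, -, ha, hb, d1, d2, d3⟩ := htri t htT hne
      have : 2 < (τ (f t)).card := Finset.two_lt_card.mpr ⟨t, ht, a, ha, b, hb, d1.symm, d3.symm, d2.symm⟩
      omega
    · have := Finset.card_pos.mpr h1
      have := Finset.card_le_card (hsub c)
      omega
  have hloc : ∀ c, 6 + (τ c).card ≤ 3 * (Fi c).card + 4 * (φ c).card := by
    intro c
    have := hτs c
    by_cases hc0 : τ c = ∅
    · have := hzero c hc0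
      rw [hc0, Finset.card_empty]
      omega
    · have := hpos c hc0
      omega
  -- the global count
  have hsumFi : ∑ c, (Fi c).card = Nat.card (S : Subgroup G) := by
    rw [Nat.card_eq_fintype_card, ← Finset.card_univ, Finset.card_eq_sum_card_fiberwise (f := f)
      (t := Finset.univ) (fun x _ => Finset.mem_univ _)]
  have hsumP : ∀ (H : Subgroup G), H ≤ (S : Subgroup G) →
      ∑ c, ((Fi c).filter fun x : ↥(S : Subgroup G) => (x : G) ∈ H).card = Nat.card H := by
    intro H hH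
    rw [← Nat.card_congr (Subgroup.subgroupOfEquivOfLe hH).toEquiv]
    have e : Nat.card (H.subgroupOf (S : Subgroup G)) =
        (Finset.univ.filter fun x : (S : Subgroup G) => (x : G) ∈ H).card := by
      rw [Nat.card_eq_fintype_card, ← Fintype.card_subtype]
      exact Fintype.card_congr (Equiv.subtypeEquivRight fun x => Subgroup.mem_subgroupOf)
    rw [e, Finset.card_eq_sum_card_fiberwise (f := f) (t := Finset.univ) (fun x _ => Finset.mem_univ _)]
    refine Finset.sum_congr rfl fun c _ => ?_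
    simp only [Fi, Finset.filter_filter, and_comm]
  have hsumτ := hsumP T hTS
  have hsumφ := hsumP F ((inf_le_left : F ≤ T).trans hTS)
  have hsum : ∑ c, (6 + (τ c).card) = 6 * Fintype.card C + Nat.card T := by
    rw [Finset.sum_add_distrib, Finset.sum_const, Finset.card_univ, smul_eq_mul, hsumτ, mul_comm]
  have hsum' : ∑ c, (3 * (Fi c).card + 4 * (φ c).card) = 3 * Nat.card (S : Subgroup G) + 4 * Nat.card F := by
    rw [Finset.sum_add_distrib, ← Finset.mul_sum, ← Finset.mul_sum, hsumFi, hsumφ]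
  have hle := Finset.sum_le_sum (fun c (_ : c ∈ Finset.univ) => hloc c)
  have hkC : k2 G = Fintype.card C := Nat.card_eq_fintype_card
  rw [hsum, hsum'] at hle
  have heq : ∀ c, 6 + (τ c).card = 3 * (Fi c).card + 4 * (φ c).card := fun c =>
    (Finset.sum_eq_sum_iff_of_le (fun c (_ : c ∈ Finset.univ) => hloc c)).mp
      (by rw [hsum, hsum']; omega) c (Finset.mem_univ c)
  have hstrong : ∀ c, τ c ≠ ∅ → τ c = Fi c ∧ (τ c).card + 2 * (φ c).card = 3 := by
    intro c hc0
    have := hpos c hc0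
    have := heq c
    have := hτs c
    exact ⟨Finset.eq_of_subset_of_card_le (Finset.filter_subset _ _) (by omega), by omega⟩
  refine ⟨S, T, h, hTS, hZT, hn, hodd, by rw [← hF]; omega, ?_, ?_, ?_⟩
  · intro t ht hfix g hg
    have htφ : (⟨t, hTS ht⟩ : (S : Subgroup G)) ∈ φ (f ⟨t, hTS ht⟩) :=
      Finset.mem_filter.mpr ⟨(hFi _ _).mpr (IsConj.refl _), (hmem t ht).mpr hfix⟩
    have htτ := hsub _ htφ
    obtain ⟨e1, e2⟩ := hstrong _ (Finset.ne_empty_of_mem htτ)
    have := Finset.card_pos.mpr ⟨_, htφ⟩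
    have := Finset.card_le_card (hsub (f ⟨t, hTS ht⟩))
    have hgτ : (⟨g * t * g⁻¹, hg⟩ : (S : Subgroup G)) ∈ τ (f ⟨t, hTS ht⟩) :=
      e1 ▸ (hFi _ _).mpr (isConj_iff.mpr ⟨g, rfl⟩)
    exact congrArg Subtype.val ((Finset.card_le_one.mp (by omega)) _ hgτ _ htτ)
  · intro t ht hne g hg
    let t' : (S : Subgroup G) := ⟨t, hTS ht⟩
    obtain ⟨a, b, hae, hbe, ha, hb, d1, d2, d3⟩ := htri t' ht hne
    have htτ : t' ∈ τ (f t') := Finset.mem_filter.mpr ⟨(hFi _ _).mpr (IsConj.refl _), ht⟩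
    obtain ⟨e1, e2⟩ := hstrong _ (Finset.ne_empty_of_mem htτ)
    have hsub3 : ({t', a, b} : Finset (S : Subgroup G)) = τ (f t') := by
      refine Finset.eq_of_subset_of_card_le (by simp [Finset.insert_subset_iff, htτ, ha, hb]) ?_
      rw [Finset.card_eq_three.mpr ⟨t', a, b, d1.symm, d3.symm, d2.symm, rfl⟩]
      omega
    have hgτ : (⟨g * t * g⁻¹, hg⟩ : (S : Subgroup G)) ∈ τ (f t') :=
      e1 ▸ (hFi _ _).mpr (isConj_iff.mpr ⟨g, rfl⟩)
    rw [← hsub3] at hgτ
    simp only [Finset.mem_insert, Finset.mem_singleton] at hgτ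
    rcases hgτ with e | e | e
    · exact Or.inl (congrArg Subtype.val e)
    · exact Or.inr (Or.inl ((congrArg Subtype.val e).trans hae))
    · exact Or.inr (Or.inr ((congrArg Subtype.val e).trans hbe))
  · intro x hx hxT y z hy hz hxy hxz hyx hzx
    let x' : (S : Subgroup G) := ⟨x, hx⟩
    have hτ0 : τ (f x') = ∅ := by
      by_contra hc0
      obtain ⟨e1, -⟩ := hstrong _ hc0
      exact hxT (Finset.mem_filter.mp (e1 ▸ (hFi x' x').mpr (IsConj.refl _) : x' ∈ τ (f x'))).2
    have hφ0 : φ (f x') = ∅ := Finset.subset_empty.mp (hτ0 ▸ hsub _)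
    have h2 := heq (f x')
    rw [hτ0, hφ0, Finset.card_empty] at h2
    by_contra hyz
    have : 2 < (Fi (f x')).card := Finset.two_lt_card.mpr
      ⟨x', (hFi _ _).mpr (IsConj.refl _), ⟨y, hy⟩, (hFi _ _).mpr hxy, ⟨z, hz⟩, (hFi _ _).mpr hxz,
        fun e => hyx (congrArg Subtype.val e).symm, fun e => hzx (congrArg Subtype.val e).symm,
        fun e => hyz (congrArg Subtype.val e)⟩
    omega

/-! ### The four-group -/

variable {S : Sylow 2 G} {T : Subgroup G} {h : G}

theorem Config.conj_mem (cf : Config S T h) {t : G} (ht : t ∈ T) : h * t * h⁻¹ ∈ T :=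
  (mem_normalizer_iff.mp cf.normal t).mp ht

theorem Config.pow_two (cf : Config S T h) {t : G} (ht : t ∈ T) : ∃ k : ℕ, t ^ 2 ^ k = 1 := by
  obtain ⟨k, hk⟩ := S.2 ⟨t, cf.le ht⟩
  exact ⟨k, by simpa using congrArg Subtype.val hk⟩

theorem Config.fix_central (cf : Config S T h) (hO : pPrimeCore 2 G = ⊥) {t : G} (ht : t ∈ T)
    (hfix : h * t * h⁻¹ = t) (g : G) : g * t = t * g :=
  mem_center_iff.mp (mem_center_of_isolated hO S (cf.le ht) (cf.fix_eq t ht hfix)) g

theorem Config.comm (cf : Config S T h) (hO : pPrimeCore 2 G = ⊥) {s t : G} (hs : s ∈ T) (ht : t ∈ T) :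
    s * t = t * s := by
  haveI : Fact (Nat.Prime 2) := ⟨Nat.prime_two⟩
  by_cases hfix : h * t * h⁻¹ = t
  · exact cf.fix_central hO ht hfix s
  by_contra hne
  have hne' : s * t * s⁻¹ ≠ t := fun e => hne (mul_inv_eq_iff_eq_mul.mp e)
  -- commutators of `T` lie in the fixed subgroup
  set F := T ⊓ centralizer ({h} : Set G) with hF
  have hFmem : ∀ x : T, x ∈ F.subgroupOf T ↔ h * (x : G) * h⁻¹ = x := fun x => by
    rw [mem_subgroupOf, hF, mem_inf, mem_centralizer_singleton_iff, and_iff_right x.2,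
      mul_inv_eq_iff_eq_mul, eq_comm]
  haveI : (F.subgroupOf T).Normal := ⟨fun x hx y => by
    have hc : y * x = x * y := Subtype.ext (cf.fix_central hO x.2 ((hFmem x).mp hx) y)
    rw [hc, mul_inv_cancel_right]; exact hx⟩
  have hidx : Nat.card (T ⧸ F.subgroupOf T) = 2 ^ 2 := by
    have h1 := Subgroup.card_mul_index (F.subgroupOf T)
    rw [Nat.card_congr (Subgroup.subgroupOfEquivOfLe (inf_le_left : F ≤ T)).toEquiv, ← cf.card_fix, ← hF,
      mul_comm 4] at h1
    exact Nat.eq_of_mul_eq_mul_left Nat.card_pos h1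
  let q := QuotientGroup.mk' (F.subgroupOf T)
  let u : T := (⟨t, ht⟩ : T)⁻¹ * (⟨s, hs⟩ * ⟨t, ht⟩ * (⟨s, hs⟩ : T)⁻¹)
  have hu : u ∈ F.subgroupOf T := by
    rw [← QuotientGroup.eq_one_iff, ← QuotientGroup.mk'_apply]
    show q u = 1
    simp only [u, map_mul, map_inv]
    rw [IsPGroup.commutative_of_card_eq_prime_sq hidx (q ⟨s, hs⟩) (q ⟨t, ht⟩)]
    group
  have hu1 := (hFmem u).mp hu
  have huval : (u : G) = t⁻¹ * (s * t * s⁻¹) := rfl
  obtain ⟨k, hk⟩ := cf.pow_two u.2
  have hS : s * t * s⁻¹ ∈ (S : Subgroup G) := cf.le (mul_mem (mul_mem hs ht) (inv_mem hs))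
  rcases cf.moved t ht hfix s hS with e | e | e
  · exact hne' e
  · have := eq_one_of_conj_eq_mul cf.odd ⟨k, hk⟩ hu1 (t := t) (by rw [huval, ← e]; group)
    exact hne' (inv_mul_eq_one.mp (huval ▸ this)).symm
  · have ho : Odd (orderOf (h * h)) := cf.odd.of_dvd_nat (by rw [← sq]; exact orderOf_pow_dvd 2)
    have hu2 : (h * h) * (u : G) * (h * h)⁻¹ = u := by
      rw [show (h * h) * (u : G) * (h * h)⁻¹ = h * (h * (u : G) * h⁻¹) * h⁻¹ by group, hu1, hu1]
    have := eq_one_of_conj_eq_mul ho ⟨k, hk⟩ hu2 (t := t) (by rw [huval, e]; group)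
    exact hne' (inv_mul_eq_one.mp (huval ▸ this)).symm

/-- `t ↦ h t h⁻¹ t⁻¹`. -/
noncomputable def Config.commHom (cf : Config S T h) (hO : pPrimeCore 2 G = ⊥) : T →* G where
  toFun t := h * (t : G) * h⁻¹ * (t : G)⁻¹
  map_one' := by simp
  map_mul' s t := by
    have e := cf.comm hO (mul_mem (cf.conj_mem t.2) (inv_mem t.2)) (inv_mem s.2)
    calc h * ((s * t : T) : G) * h⁻¹ * ((s * t : T) : G)⁻¹
        = h * (s : G) * h⁻¹ * ((h * (t : G) * h⁻¹ * (t : G)⁻¹) * (s : G)⁻¹) := by rw [Subgroup.coe_mul]; group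
      _ = _ := by rw [e]; group

/-- The four-group `[T, h]`. -/
noncomputable def Config.four (cf : Config S T h) (hO : pPrimeCore 2 G = ⊥) : Subgroup G :=
  (cf.commHom hO).range

section Four

variable (cf : Config S T h) (hO : pPrimeCore 2 G = ⊥)

theorem Config.four_le : cf.four hO ≤ T := by
  rintro _ ⟨t, rfl⟩
  exact mul_mem (cf.conj_mem t.2) (inv_mem t.2)

theorem Config.card_four : Nat.card (cf.four hO) = 4 := by
  set F := T ⊓ centralizer ({h} : Set G) with hF
  have hker : (cf.commHom hO).ker = F.subgroupOf T := by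
    ext x
    rw [MonoidHom.mem_ker, mem_subgroupOf, hF, mem_inf, mem_centralizer_singleton_iff, and_iff_right x.2]
    show h * (x : G) * h⁻¹ * (x : G)⁻¹ = 1 ↔ _
    rw [mul_inv_eq_one, mul_inv_eq_iff_eq_mul, eq_comm]
  have h1 : Nat.card (cf.four hO) = (cf.commHom hO).ker.index := by
    rw [Subgroup.index_ker]; rfl
  rw [h1, hker]
  have h2 := Subgroup.card_mul_index (F.subgroupOf T)
  rw [Nat.card_congr (Subgroup.subgroupOfEquivOfLe (inf_le_left : F ≤ T)).toEquiv, ← cf.card_fix, ← hF,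
    mul_comm 4] at h2
  exact Nat.eq_of_mul_eq_mul_left Nat.card_pos h2

theorem Config.conj_mem_four {v : G} (hv : v ∈ cf.four hO) : h * v * h⁻¹ ∈ cf.four hO := by
  obtain ⟨t, rfl⟩ := hv
  exact ⟨⟨_, cf.conj_mem t.2⟩, by
    show h * (h * (t : G) * h⁻¹) * h⁻¹ * (h * (t : G) * h⁻¹)⁻¹ = h * (h * (t : G) * h⁻¹ * (t : G)⁻¹) * h⁻¹
    group⟩

theorem Config.moves_four {v : G} (hv : v ∈ cf.four hO) (hv1 : v ≠ 1) : h * v * h⁻¹ ≠ v := by
  intro hfix
  obtain ⟨t, rfl⟩ := hv
  have hvt : h * (t : G) * h⁻¹ = (t : G) * cf.commHom hO t := by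
    rw [← cf.comm hO (cf.four_le hO ⟨t, rfl⟩) t.2]
    show _ = h * (t : G) * h⁻¹ * (t : G)⁻¹ * (t : G)
    group
  exact hv1 (eq_one_of_conj_eq_mul cf.odd (cf.pow_two (cf.four_le hO ⟨t, rfl⟩)) hfix hvt)

/-- The nontrivial elements of `[T, h]` are the images of one of them. -/
theorem Config.four_cases {v w : G} (hv : v ∈ cf.four hO) (hv1 : v ≠ 1) (hw : w ∈ cf.four hO) :
    w = 1 ∨ w = v ∨ w = h * v * h⁻¹ ∨ w = h * (h * v * h⁻¹) * h⁻¹ := by
  classical
  have := Fintype.ofFinite G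
  have ha := cf.conj_mem_four hO hv
  have hb := cf.conj_mem_four hO ha
  have d0 := cf.moves_four hO hv hv1
  have ha1 : h * v * h⁻¹ ≠ 1 := fun e => hv1 (conj_eq_one_iff.mp e)
  have hb1 : h * (h * v * h⁻¹) * h⁻¹ ≠ 1 := fun e => ha1 (conj_eq_one_iff.mp e)
  have d1 := cf.moves_four hO ha ha1
  have d2 : h * (h * v * h⁻¹) * h⁻¹ ≠ v := fun e => d0 (fix_of_fix_sq cf.odd e)
  have hset : ({1, v, h * v * h⁻¹, h * (h * v * h⁻¹) * h⁻¹} : Finset G) =
      Finset.univ.filter fun x => x ∈ cf.four hO := by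
    refine Finset.eq_of_subset_of_card_le ?_ ?_
    · simp [Finset.insert_subset_iff, hv, ha, hb]
    · have e : (Finset.univ.filter fun x => x ∈ cf.four hO).card = 4 := by
        rw [← Fintype.card_subtype, ← Nat.card_eq_fintype_card]
        exact cf.card_four hO
      rw [e, Finset.card_insert_of_notMem, Finset.card_insert_of_notMem, Finset.card_pair d1.symm]
      · simp [d0.symm, d2.symm]
      · simp [hv1.symm, ha1.symm, hb1.symm]
  have : w ∈ ({1, v, h * v * h⁻¹, h * (h * v * h⁻¹) * h⁻¹} : Finset G) := by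
    rw [hset]; simp [hw]
  simpa using this

theorem Config.sq_four {v : G} (hv : v ∈ cf.four hO) : v ^ 2 = 1 := by
  by_cases hv1 : v = 1
  · rw [hv1, one_pow]
  haveI : Fact (Nat.Prime 2) := ⟨Nat.prime_two⟩
  obtain ⟨e, he⟩ := exists_prime_orderOf_dvd_card' (G := cf.four hO) 2 (by rw [cf.card_four hO]; norm_num)
  have he2 : (e : G) ^ 2 = 1 := by
    rw [← SubmonoidClass.coe_pow, ← he, pow_orderOf_eq_one]; rfl
  have he1 : (e : G) ≠ 1 := fun h0 => by
    rw [← Subgroup.orderOf_coe, h0, orderOf_one] at he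
    omega
  rcases cf.four_cases hO e.2 he1 hv with e' | e' | e' | e'
  · exact absurd e' hv1
  · rw [e', he2]
  · rw [e', conj_pow, he2]; group
  · rw [e', conj_pow, conj_pow, he2]; group

theorem Config.fuse_four {v : G} (hv : v ∈ cf.four hO) (g : G) (hg : g * v * g⁻¹ ∈ (S : Subgroup G)) :
    g * v * g⁻¹ ∈ cf.four hO := by
  by_cases hv1 : v = 1
  · simpa [hv1] using one_mem (cf.four hO)
  have ha := cf.conj_mem_four hO hv
  rcases cf.moved v (cf.four_le hO hv) (cf.moves_four hO hv hv1) g hg with e | e | e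
  · rwa [e]
  · rwa [e]
  · rw [e]; exact cf.conj_mem_four hO ha

theorem Config.conj_mem_of_mem {s v : G} (hs : s ∈ (S : Subgroup G)) (hv : v ∈ cf.four hO) :
    s * v * s⁻¹ ∈ cf.four hO :=
  cf.fuse_four hO hv s (mul_mem (mul_mem hs (cf.le (cf.four_le hO hv))) (inv_mem hs))

/-- If the four-group is central in `S` then `S = T`. -/
theorem Config.eq_of_central (hcen : ∀ v ∈ cf.four hO, ∀ s ∈ (S : Subgroup G), s * v = v * s) :
    (S : Subgroup G) ≤ T := by
  haveI : Fact (Nat.Prime 2) := ⟨Nat.prime_two⟩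
  intro x hx
  by_contra hxT
  obtain ⟨v, hv, hv1⟩ : ∃ v ∈ cf.four hO, v ≠ 1 := by
    refine ((cf.four hO).bot_or_exists_ne_one).resolve_left ?_
    intro e
    have := cf.card_four hO
    rw [e, Subgroup.card_bot] at this
    omega
  have hcS : ∀ w ∈ cf.four hO, w ∈ centralizer ((S : Subgroup G) : Set G) := fun w hw => fun s hs => hcen w hw s hs
  obtain ⟨n, hn, he⟩ := Transfer.exists_sylow_normalizer_conj_eq S {v} h
    (by simpa using hcS v hv) (by simpa using hcS _ (cf.conj_mem_four hO hv))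
  have hnv := he v rfl
  apply cf.moves_four hO hv hv1
  rw [← hnv]
  suffices hmem : n ∈ centralizer ({v} : Set G) by
    rw [mem_centralizer_singleton_iff] at hmem
    rw [hmem, mul_inv_cancel_right]
  -- odd elements of the normalizer centralise `S`
  have hkey : ∀ m ∈ normalizer ((S : Subgroup G) : Set G), Odd (orderOf m) → m * v * m⁻¹ = v := by
    intro m hm hmo
    have hfixout : ∀ y ∈ (S : Subgroup G), y ∉ T → m * y * m⁻¹ = y := by
      intro y hy hyT
      by_contra hne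
      have hy1 := (mem_normalizer_iff.mp hm y).mp hy
      have hy2 := (mem_normalizer_iff.mp hm _).mp hy1
      have hne2 : m * (m * y * m⁻¹) * m⁻¹ ≠ y := fun e => hne (fix_of_fix_sq hmo e)
      have := cf.outside y hy hyT _ _ hy1 hy2 (isConj_iff.mpr ⟨m, rfl⟩)
        (isConj_iff.mpr ⟨m * m, by group⟩) hne hne2
      exact hne ((MulAut.conj m).injective this).symm
    have hvT := cf.four_le hO hv
    have h1 : x * v ∉ T := fun h0 => hxT (by simpa using mul_mem h0 (inv_mem hvT))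
    have h2 := hfixout _ (mul_mem hx (cf.le hvT)) h1
    have h3 := hfixout x hx hxT
    calc m * v * m⁻¹ = (m * x * m⁻¹)⁻¹ * (m * (x * v) * m⁻¹) := by group
      _ = v := by rw [h2, h3]; group
  obtain ⟨i, q, hq, hnq⟩ := Nat.exists_eq_pow_mul_and_not_dvd (orderOf_pos n).ne' 2 (by norm_num)
  have hqo : Odd q := Nat.odd_iff.mpr (Nat.two_dvd_ne_zero.mp hq)
  have hc1 : n ^ 2 ^ i ∈ centralizer ({v} : Set G) := by
    rw [mem_centralizer_singleton_iff, ← mul_inv_eq_iff_eq_mul]
    refine hkey _ (pow_mem hn _) (hqo.of_dvd_nat (orderOf_dvd_of_pow_eq_one ?_))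
    rw [← pow_mul, ← hnq, pow_orderOf_eq_one]
  have hc2 : n ^ q ∈ centralizer ({v} : Set G) := by
    have hnS : n ^ q ∈ (S : Subgroup G) := by
      have hp : IsPGroup 2 (zpowers (n ^ q)) := by
        refine IsPGroup.iff_card.mpr ?_
        rw [Nat.card_zpowers]
        obtain ⟨j, -, hj⟩ := (Nat.dvd_prime_pow Nat.prime_two).mp (orderOf_dvd_of_pow_eq_one (x := n ^ q) (n := 2 ^ i)
          (by rw [← pow_mul, mul_comm, ← hnq, pow_orderOf_eq_one]))
        exact ⟨j, hj⟩
      have : n ^ q ∈ zpowers (n ^ q) ⊓ (S : Subgroup G) := by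
        rw [← hp.inf_normalizer_sylow S]
        exact ⟨mem_zpowers _, pow_mem hn q⟩
      exact this.2
    rw [mem_centralizer_singleton_iff]
    exact hcen v hv _ hnS
  have hg : ((2 ^ i : ℕ).gcd q : ℕ) = 1 := Nat.Coprime.pow_left i (Nat.coprime_two_left.mpr hqo)
  have := Nat.gcd_eq_gcd_ab (2 ^ i) q
  rw [hg] at this
  have hz : n = (n ^ 2 ^ i) ^ Nat.gcdA (2 ^ i) q * (n ^ q) ^ Nat.gcdB (2 ^ i) q := by
    conv_lhs => rw [← zpow_one n]
    rw [show (1 : ℤ) = _ from this, zpow_add, zpow_mul, zpow_mul, zpow_natCast, zpow_natCast]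
  rw [hz]
  exact mul_mem (zpow_mem hc1 _) (zpow_mem hc2 _)

/-- Fused elements of `S` differ by an element of the four-group. -/
theorem Config.focal_mem {x g : G} (hx : x ∈ (S : Subgroup G)) (hg : g * x * g⁻¹ ∈ (S : Subgroup G)) :
    x⁻¹ * (g * x * g⁻¹) ∈ cf.four hO := by
  classical
  set V := cf.four hO with hV
  by_cases hxT : x ∈ T
  · by_cases hfix : h * x * h⁻¹ = x
    · rw [cf.fix_eq x hxT hfix g hg, inv_mul_cancel]; exact one_mem _
    have hv : x⁻¹ * (h * x * h⁻¹) ∈ V := ⟨⟨x, hxT⟩, cf.comm hO (cf.conj_mem hxT) (inv_mem hxT)⟩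
    rcases cf.moved x hxT hfix g hg with e | e | e <;> rw [e]
    · rw [inv_mul_cancel]; exact one_mem _
    · exact hv
    · rw [show x⁻¹ * (h * (h * x * h⁻¹) * h⁻¹) = x⁻¹ * (h * x * h⁻¹) * (h * (x⁻¹ * (h * x * h⁻¹)) * h⁻¹) by
        group]
      exact mul_mem hv (cf.conj_mem_four hO hv)
  -- now `x` lies outside `T`
  obtain ⟨v, y, hv, hy, hvy⟩ : ∃ v y, v ∈ V ∧ y ∈ (S : Subgroup G) ∧ y * v * y⁻¹ ≠ v := by
    by_contra hall
    push Not at hall
    exact hxT (cf.eq_of_central hO (fun v hv s hs => mul_inv_eq_iff_eq_mul.mp (hall v s hv hs)) hx)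
  have hv1 : v ≠ 1 := fun e => hvy (by rw [e]; group)
  have hv2 : v * v = 1 := by rw [← sq]; exact cf.sq_four hO hv
  set c := y * v * y⁻¹ * v⁻¹ with hc
  have hw := cf.conj_mem_of_mem hO hy hv
  have hcV : c ∈ V := mul_mem hw (inv_mem hv)
  have hc1 : c ≠ 1 := fun e => hvy (mul_inv_eq_one.mp e)
  have hc2 : c * c = 1 := by rw [← sq]; exact cf.sq_four hO hcV
  -- `c` is central in `S`
  have key4 : ∀ w ∈ V, w = 1 ∨ w = v ∨ w = c ∨ w = c * v := by
    intro w hw'
    have := Fintype.ofFinite G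
    have hset : ({1, v, c, c * v} : Finset G) = Finset.univ.filter fun x => x ∈ V := by
      refine Finset.eq_of_subset_of_card_le ?_ ?_
      · simp [Finset.insert_subset_iff, hv, hcV, mul_mem hcV hv]
      · have e : (Finset.univ.filter fun x => x ∈ V).card = 4 := by
          rw [← Fintype.card_subtype, ← Nat.card_eq_fintype_card]
          exact cf.card_four hO
        have hcv : c ≠ v := fun e => by
          have : y * v * y⁻¹ = 1 := by rw [← hv2, ← inv_mul_cancel_right (y * v * y⁻¹) v, ← hc, e]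
          exact hv1 (conj_eq_one_iff.mp this)
        rw [e, Finset.card_insert_of_notMem, Finset.card_insert_of_notMem, Finset.card_pair]
        · exact fun e => hv1 (mul_eq_left.mp e.symm)
        · simp [hcv.symm, hc1]
        · simp only [Finset.mem_insert, Finset.mem_singleton, not_or]
          exact ⟨hv1.symm, hc1.symm, fun e => hcv (mul_right_cancel (e.symm.trans hv2.symm))⟩
    have : w ∈ ({1, v, c, c * v} : Finset G) := by rw [hset]; simp [hw']
    simpa using this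
  clear_value c
  have hccen : ∀ z ∈ (S : Subgroup G), z * c * z⁻¹ = c := by
    haveI : Fact (Nat.Prime 2) := ⟨Nat.prime_two⟩
    haveI : ((cf.four hO).subgroupOf (S : Subgroup G)).Normal :=
      ⟨fun a ha b => cf.conj_mem_of_mem hO b.2 ha⟩
    have hne' : (cf.four hO).subgroupOf (S : Subgroup G) ≠ ⊥ := fun e => hc1 (by
      have : (⟨c, cf.le (cf.four_le hO hcV)⟩ : (S : Subgroup G)) ∈ (cf.four hO).subgroupOf (S : Subgroup G) := hcV
      rw [e, mem_bot] at this
      exact congrArg Subtype.val this)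
    obtain ⟨w, hwV, hwc, hwo⟩ := PGroup.exists_orderOf_eq_mem_center S.2 _ hne'
    have hwcen : ∀ s ∈ (S : Subgroup G), s * (w : G) * s⁻¹ = w := fun s hs => by
      rw [mul_inv_eq_iff_eq_mul]
      exact congrArg Subtype.val (mem_center_iff.mp hwc ⟨s, hs⟩)
    rcases key4 (w : G) hwV with e | e | e | e
    · rw [← Subgroup.orderOf_coe, e, orderOf_one] at hwo; omega
    · exact absurd (e ▸ hwcen y hy) hvy
    · exact fun z hz => e ▸ hwcen z hz
    · have hcw : (w : G) = y * v * y⁻¹ := by rw [e, hc, inv_mul_cancel_right]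
      have h1 := hwcen y hy
      rw [hcw] at h1
      exact absurd ((MulAut.conj y).injective h1) hvy
  have hcy : y * c * y⁻¹ = c := hccen y hy
  -- conjugation by `S` of elements outside `T`
  have hA : ∀ a ∈ (S : Subgroup G), a * v * a⁻¹ ≠ v → ∀ z ∈ (S : Subgroup G),
      z * a * z⁻¹ = a ∨ z * a * z⁻¹ = c * a := by
    intro a ha hne z hz
    have haT : a ∉ T := fun h0 => hne (by rw [cf.comm hO h0 (cf.four_le hO hv), mul_inv_cancel_right])
    have hav : a * v * a⁻¹ = c * v := by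
      rcases key4 _ (cf.conj_mem_of_mem hO ha hv) with e | e | e | e
      · exact absurd (conj_eq_one_iff.mp e) hv1
      · exact absurd e hne
      · exact absurd ((MulAut.conj a).injective (e.trans (hccen a ha).symm)) (fun h0 : v = c => hvy (by
          rw [h0]; exact hcy))
      · exact e
    have hvinv : v⁻¹ = v := inv_eq_of_mul_eq_one_left hv2
    have hva : v * a * v⁻¹ = c * a := by
      calc v * a * v⁻¹ = v * (a * v * a⁻¹) * a := by rw [hvinv]; group
        _ = (v * c) * v * a := by rw [hav]; group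
        _ = c * a := by rw [cf.comm hO (cf.four_le hO hv) (cf.four_le hO hcV), mul_assoc c, hv2, mul_one]
    by_cases hza : z * a * z⁻¹ = a
    · exact Or.inl hza
    refine Or.inr ?_
    rw [← hva]
    exact cf.outside a ha haT _ _ (mul_mem (mul_mem hz ha) (inv_mem hz))
      (mul_mem (mul_mem (cf.le (cf.four_le hO hv)) ha) (inv_mem (cf.le (cf.four_le hO hv))))
      (isConj_iff.mpr ⟨z, rfl⟩) (isConj_iff.mpr ⟨v, rfl⟩) hza (fun e => hc1 (by
        rw [hva] at e; exact mul_eq_right.mp e))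
  have hall : ∀ z ∈ (S : Subgroup G), z * x * z⁻¹ = x ∨ z * x * z⁻¹ = c * x := by
    by_cases hxv : x * v * x⁻¹ = v
    swap
    · exact hA x hx hxv
    have hB : ∀ z ∈ (S : Subgroup G), z * v * z⁻¹ ≠ v → z * x * z⁻¹ = x ∨ z * x * z⁻¹ = c * x := by
      intro z hz hzv
      rcases hA z hz hzv x hx with e | e
      · left; rw [mul_inv_eq_iff_eq_mul] at e ⊢; exact e.symm
      · right
        rw [mul_inv_eq_iff_eq_mul] at e ⊢
        calc z * x = c * (c * z * x) := by rw [← mul_assoc, ← mul_assoc, hc2, one_mul]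
          _ = c * (x * z) := by rw [e]
          _ = c * x * z := (mul_assoc _ _ _).symm
    intro z hz
    by_cases hzv : z * v * z⁻¹ = v
    swap
    · exact hB z hz hzv
    have hzy : z * y * v * (z * y)⁻¹ ≠ v := fun e => hvy ((MulAut.conj z).injective (by
      show z * (y * v * y⁻¹) * z⁻¹ = z * v * z⁻¹
      rw [hzv]
      calc z * (y * v * y⁻¹) * z⁻¹ = z * y * v * (z * y)⁻¹ := by group
        _ = v := e))
    have e1 : z * (y * x * y⁻¹) * z⁻¹ = z * y * x * (z * y)⁻¹ := by group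
    have hcz := hccen z hz
    rcases hB y hy hvy with e | e <;> rcases hB _ (mul_mem hz hy) hzy with e' | e' <;>
      rw [e, e'] at e1
    · exact Or.inl e1
    · exact Or.inr e1
    · right
      rw [show z * (c * x) * z⁻¹ = (z * c * z⁻¹) * (z * x * z⁻¹) by group, hcz] at e1
      calc z * x * z⁻¹ = c * (c * (z * x * z⁻¹)) := by rw [← mul_assoc, hc2, one_mul]
        _ = c * x := by rw [e1]
    · left
      rw [show z * (c * x) * z⁻¹ = (z * c * z⁻¹) * (z * x * z⁻¹) by group, hcz] at e1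
      exact mul_left_cancel e1
  by_cases hgx : g * x * g⁻¹ = x
  · rw [hgx, inv_mul_cancel]; exact one_mem _
  obtain ⟨z, hz, hzx⟩ : ∃ z ∈ (S : Subgroup G), z * x * z⁻¹ ≠ x := by
    by_contra hno
    push Not at hno
    exact hxT (cf.center_le ⟨hx, fun s hs => mul_inv_eq_iff_eq_mul.mp (hno s hs)⟩)
  have hzx' : z * x * z⁻¹ = c * x := (hall z hz).resolve_left hzx
  have := cf.outside x hx hxT _ _ hg (mul_mem (mul_mem hz hx) (inv_mem hz)) (isConj_iff.mpr ⟨g, rfl⟩)
    (isConj_iff.mpr ⟨z, rfl⟩) hgx hzx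
  rw [this, hzx', show x⁻¹ * (c * x) = x⁻¹ * c * x by group]
  have e := hccen x⁻¹ (inv_mem hx)
  rw [inv_inv] at e
  rwa [e]

end Four

/-- If `O(G) = 1` and `2 k₂(G) = |P|`, some Sylow 2-subgroup has a four-group as focal subgroup, its involutions
being permuted transitively by an element of odd order. -/
theorem exists_four_focal (hO : pPrimeCore 2 G = ⊥) (P : Sylow 2 G)
    (hk : 2 * k2 G = Nat.card (P : Subgroup G)) :
    ∃ (S : Sylow 2 G) (V : Subgroup G) (h : G), Subgroup.focalSubgroup (S : Subgroup G) = V ∧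
      Nat.card V = 4 ∧ (∀ v ∈ V, v ^ 2 = 1) ∧ Odd (orderOf h) ∧ (∀ v ∈ V, h * v * h⁻¹ ∈ V) ∧
      ∀ v ∈ V, v ≠ 1 → ∀ w ∈ V, w = 1 ∨ w = v ∨ w = h * v * h⁻¹ ∨ w = h * (h * v * h⁻¹) * h⁻¹ := by
  obtain ⟨S, T, h, cf⟩ := exists_config hO P hk
  refine ⟨S, cf.four hO, h, le_antisymm ?_ ?_, cf.card_four hO, fun v hv => cf.sq_four hO hv, cf.odd,
    fun v hv => cf.conj_mem_four hO hv, fun v hv hv1 w hw => cf.four_cases hO hv hv1 hw⟩
  · rw [Subgroup.focalSubgroup_def, closure_le]
    rintro a ⟨ha, x, hx, u, rfl⟩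
    rw [commutatorElement_def] at ha ⊢
    have h1 : u * x⁻¹ * u⁻¹ ∈ (S : Subgroup G) := by
      have := mul_mem (inv_mem hx) ha
      convert this using 1
      group
    have := cf.focal_mem hO (inv_mem hx) h1
    rw [inv_inv] at this
    rw [show x * u * x⁻¹ * u⁻¹ = x * (u * x⁻¹ * u⁻¹) by group]
    exact this
  · rintro _ ⟨t, rfl⟩
    rw [Subgroup.focalSubgroup_def]
    refine subset_closure ⟨cf.le (cf.four_le hO ⟨t, rfl⟩), (t : G)⁻¹, cf.le (inv_mem t.2), h, ?_⟩
    show h * (t : G) * h⁻¹ * (t : G)⁻¹ = _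
    rw [commutatorElement_def, inv_inv, cf.comm hO (cf.conj_mem t.2) (inv_mem t.2)]
    group

end Cfsg.Agent.ClassCount.HalfSylow
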