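import Cfsg.Agent.Lib.ClassCount.HalfSylow
import Cfsg.Agent.Lib.GW.KType
import Cfsg.Agent.Lib.PSL2.Basic
import Mathlib.GroupTheory.SpecificGroups.Alternating
import Mathlib.GroupTheory.SpecificGroups.KleinFour

/-!
# The groups with `2 k₂(G) = |P|`

* `structure_of_half`: with `O(G) = 1`, `G/Z(G)` is `A₄`, `S₄`, or has a simple normal subgroup with trivial
  centraliser isomorphic to `PSL₂(q)`, `q ≡ 3, 5 (mod 8)`, provided the simple groups with dihedral Sylow
  2-subgroups are known.
-/

set_option autoImplicit false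
set_option linter.style.haveILetI false
set_option linter.unusedSectionVars false

namespace Cfsg.Agent.ClassCount.HalfSylow

open Subgroup
open scoped Pointwise commutatorElement

universe u

variable {G : Type u} [Group G] [Finite G]

theorem isPGroup_of_hasNormalPComplement (hO : pPrimeCore 2 G = ⊥) (H : Subgroup G) [H.Normal]
    (hc : HasNormalPComplement 2 H) : IsPGroup 2 H := by
  haveI : Fact (Nat.Prime 2) := ⟨Nat.prime_two⟩
  obtain ⟨R⟩ := (inferInstance : Nonempty (Sylow 2 H))
  obtain ⟨K, hK, hKc⟩ := (Transfer.hasNormalPComplement_iff_exists R).mp hc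
  have hK1 : K = ⊥ := by
    haveI := hK
    refine le_bot_iff.mp (PCore.pPrimeCore_eq_bot_of_normal H hO ▸ PCore.le_pPrimeCore ?_)
    have h1 := R.not_dvd_index
    rw [hKc.index_eq_card] at h1
    exact Nat.coprime_comm.mp ((Nat.prime_two.coprime_iff_not_dvd).mpr h1)
  have htop : (R : Subgroup H) = ⊤ := by
    have := hKc.sup_eq_top
    rwa [hK1, bot_sup_eq] at this
  exact IsPGroup.of_equiv (htop ▸ R.2 : IsPGroup 2 (⊤ : Subgroup H)) Subgroup.topEquiv

theorem hasNormalPComplement_of_small {X : Type u} [Group X] [Finite X] (R : Sylow 2 X)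
    (h : (∀ r ∈ (R : Subgroup X), ∀ g : X, g * r = r * g) ∨ Nat.card (R : Subgroup X) ≤ 2) :
    HasNormalPComplement 2 X := by
  haveI : Fact (Nat.Prime 2) := ⟨Nat.prime_two⟩
  refine Transfer.hasNormalPComplement_of_centralizer R fun Q hQ g hg _ => ?_
  rw [mem_centralizer_iff]
  intro q hq
  rcases h with h | h
  · exact (h q (hQ hq) g).symm
  by_cases hq1 : q = 1
  · rw [hq1, one_mul, mul_one]
  have hgq : g * q * g⁻¹ ∈ Q := (mem_normalizer_iff.mp hg q).mp hq
  have hne : g * q * g⁻¹ ≠ 1 := fun e => hq1 (conj_eq_one_iff.mp e)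
  suffices e : g * q * g⁻¹ = q from (mul_inv_eq_iff_eq_mul.mp e).symm
  by_contra hd
  classical
  have := Fintype.ofFinite X
  have h2 : 2 < Nat.card (R : Subgroup X) := by
    rw [Nat.card_eq_fintype_card, ← Finset.card_univ, Finset.two_lt_card]
    exact ⟨1, Finset.mem_univ _, ⟨q, hQ hq⟩, Finset.mem_univ _, ⟨_, hQ hgq⟩, Finset.mem_univ _,
      fun e => hq1 (congrArg Subtype.val e).symm, fun e => hne (congrArg Subtype.val e).symm,
      fun e => hd (congrArg Subtype.val e).symm⟩
  omega

/-- The trace of a Sylow subgroup on a normal subgroup is a Sylow subgroup. -/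
theorem exists_sylow_eq (S : Sylow 2 G) (M : Subgroup G) [M.Normal] :
    ∃ R : Sylow 2 M, (R : Subgroup M) = (S : Subgroup G).subgroupOf M := by
  haveI : Fact (Nat.Prime 2) := ⟨Nat.prime_two⟩
  obtain ⟨R, hR⟩ := (S.2.comap_of_injective M.subtype M.subtype_injective).exists_le_sylow
  refine ⟨R, (Subgroup.eq_of_le_of_card_ge hR ?_).symm⟩
  obtain ⟨Q, hQ⟩ := (R.2.map M.subtype).exists_le_sylow
  obtain ⟨g, rfl⟩ := MulAction.exists_smul_eq G S Q
  let f : ↥(R : Subgroup M) → (S : Subgroup G).subgroupOf M := fun r =>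
    ⟨⟨g⁻¹ * ((r : M) : G) * g, by simpa using (inferInstance : M.Normal).conj_mem _ (r : M).2 g⁻¹⟩, by
      have h1 : ((r : M) : G) ∈ MulAut.conj g • (S : Subgroup G) := hQ ⟨r, r.2, rfl⟩
      rw [Subgroup.mem_pointwise_smul_iff_inv_smul_mem] at h1
      rw [mem_subgroupOf]
      simpa [MulAut.smul_def, MulAut.inv_def] using h1⟩
  refine Nat.card_le_card_of_injective f fun a b e => ?_
  have := congrArg (fun z : (S : Subgroup G).subgroupOf M => ((z : M) : G)) e
  replace this := mul_left_cancel (mul_right_cancel this)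
  exact Subtype.ext (Subtype.ext this)

theorem card_sylow_trace (S : Sylow 2 G) (M : Subgroup G) [M.Normal] (R : Sylow 2 M) :
    Nonempty ((R : Subgroup M) ≃* ↥((S : Subgroup G) ⊓ M)) := by
  haveI : Fact (Nat.Prime 2) := ⟨Nat.prime_two⟩
  obtain ⟨R', hR'⟩ := exists_sylow_eq S M
  refine ⟨(R.equiv R').trans ((MulEquiv.subgroupCongr ?_).trans
    (Subgroup.subgroupOfEquivOfLe (inf_le_right : (S : Subgroup G) ⊓ M ≤ M)))⟩
  rw [hR', inf_subgroupOf_right]

theorem eq_bot_of_trace_eq_bot (hO : pPrimeCore 2 G = ⊥) (S : Sylow 2 G) (H : Subgroup G) [H.Normal]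
    (h : (S : Subgroup G) ⊓ H = ⊥) : H = ⊥ := by
  haveI : Fact (Nat.Prime 2) := ⟨Nat.prime_two⟩
  refine le_bot_iff.mp (hO ▸ PCore.le_pPrimeCore ?_)
  obtain ⟨R, hR⟩ := exists_sylow_eq S H
  have h1 := R.not_dvd_index
  have h2 : (R : Subgroup H) = ⊥ := by rw [hR, ← inf_subgroupOf_right, h, bot_subgroupOf]
  rw [h2, index_bot] at h1
  exact Nat.coprime_comm.mp ((Nat.prime_two.coprime_iff_not_dvd).mpr h1)

theorem commute_of_normal_of_inf_eq_bot {A B : Subgroup G} (hA : A.Normal) (hB : B.Normal) (h : A ⊓ B = ⊥) :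
    A ≤ centralizer (B : Set G) := fun a ha b hb =>
  (Subgroup.commute_of_normal_of_disjoint A B hA hB (disjoint_iff.mpr h) a b ha hb).symm.eq

theorem structure_of_half (hO : pPrimeCore 2 G = ⊥) (P : Sylow 2 G)
    (hk : 2 * k2 G = Nat.card (P : Subgroup G))
    (hGW : ∀ (X : Type u) [Group X] [Finite X], IsSimpleGroup X → GW.DihedralTwo X → GW.IsKnown X) :
    Nonempty (G ⧸ center G ≃* alternatingGroup (Fin 4)) ∨ Nonempty (G ⧸ center G ≃* Equiv.Perm (Fin 4)) ∨
      ∃ S : Subgroup (G ⧸ center G), S.Normal ∧ IsSimpleGroup S ∧ ¬ IsMulCommutative S ∧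
        centralizer (S : Set (G ⧸ center G)) = ⊥ ∧
        ∃ (F : Type) (_ : Field F) (_ : Fintype F), 3 < Fintype.card F ∧
          (Fintype.card F % 8 = 3 ∨ Fintype.card F % 8 = 5) ∧
          Nonempty (S ≃* Matrix.ProjectiveSpecialLinearGroup (Fin 2) F) := by
  classical
  haveI : Fact (Nat.Prime 2) := ⟨Nat.prime_two⟩
  obtain ⟨S, V, h, hfoc, hV4, hVsq, hodd, hVh, hVcases⟩ := exists_four_focal hO P hk
  have hcop : Nat.Coprime (S : Subgroup G).index ((⁅(S : Subgroup G), (S : Subgroup G)⁆).relIndex (S : Subgroup G)) := by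
    obtain ⟨n, hn⟩ := IsPGroup.iff_card.mp S.2
    refine Nat.Coprime.coprime_dvd_right (Subgroup.index_dvd_card _) ?_
    rw [hn]
    exact Nat.Coprime.pow_right _ (Nat.coprime_comm.mp ((Nat.prime_two.coprime_iff_not_dvd).mpr S.not_dvd_index))
  have hG'S : commutator G ⊓ (S : Subgroup G) = V := by
    rw [Transfer.commutator_inf_eq_focalSubgroup_of_coprime _ hcop, hfoc]
  obtain ⟨N, hN, hNS, hNsup⟩ := Transfer.exists_normal_inf_eq_commutator_inf (S : Subgroup G) hcop
  haveI := hN
  rw [hG'S] at hNS
  have hSN : (S : Subgroup G) ⊓ N = V := by rw [inf_comm]; exact hNS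
  have hVN : V ≤ N := hNS ▸ inf_le_left
  have hVS : V ≤ (S : Subgroup G) := hNS ▸ inf_le_right
  have hGN : IsPGroup 2 (G ⧸ N) := by
    have h1 : (S : Subgroup G).map (QuotientGroup.mk' N) = ⊤ := by
      have := congrArg (Subgroup.map (QuotientGroup.mk' N)) hNsup
      rwa [Subgroup.map_sup, QuotientGroup.map_mk'_self, bot_sup_eq,
        Subgroup.map_top_of_surjective _ (QuotientGroup.mk'_surjective N)] at this
    exact IsPGroup.of_equiv (h1 ▸ S.2.map (QuotientGroup.mk' N) : IsPGroup 2 (⊤ : Subgroup (G ⧸ N))) Subgroup.topEquiv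
  have hhN : h ∈ N := by
    rw [← QuotientGroup.eq_one_iff, ← orderOf_eq_one_iff]
    obtain ⟨k, hk⟩ := (IsPGroup.iff_orderOf (p := 2)).mp hGN (h : G ⧸ N)
    exact Nat.eq_one_of_dvd_coprimes (Nat.Coprime.pow_left k (Nat.coprime_two_left.mpr hodd)) hk.dvd
      (orderOf_map_dvd (QuotientGroup.mk' N) h)
  have hexv : ∃ v ∈ V, v ≠ 1 := by
    refine V.bot_or_exists_ne_one.resolve_left fun e => ?_
    rw [e, Subgroup.card_bot] at hV4
    omega
  have hmove : ∀ v ∈ V, v ≠ 1 → h * v * h⁻¹ ≠ v := by
    intro v hv hv1 e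
    obtain ⟨w, hw, hw'⟩ : ∃ w ∈ V, w ∉ ({1, v} : Finset G) := by
      by_contra hall
      push Not at hall
      have := Fintype.ofFinite G
      have h2 : (Finset.univ.filter fun x => x ∈ V).card ≤ 2 := by
        refine (Finset.card_le_card (t := ({1, v} : Finset G)) fun x hx => ?_).trans Finset.card_le_two
        exact hall x (Finset.mem_filter.mp hx).2
      rw [← Fintype.card_subtype, ← Nat.card_eq_fintype_card] at h2
      have h4 : Nat.card {x // x ∈ V} = 4 := hV4
      omega
    simp only [Finset.mem_insert, Finset.mem_singleton, not_or] at hw'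
    rcases hVcases v hv hv1 w hw with e' | e' | e' | e'
    · exact hw'.1 e'
    · exact hw'.2 e'
    · exact hw'.2 (e'.trans e)
    · exact hw'.2 (by rw [e', e, e])
  -- a subgroup permuted by `h` meeting `V` nontrivially contains it
  have habsorb : ∀ A : Subgroup G, (∀ a ∈ A, h * a * h⁻¹ ∈ A) → V ⊓ A ≠ ⊥ → V ≤ A := by
    intro A hA hne w hw
    obtain ⟨v, ⟨hv, hvA⟩, hv1⟩ := (V ⊓ A).bot_or_exists_ne_one.resolve_left hne
    rcases hVcases v hv hv1 w hw with e | e | e | e <;> rw [e]
    · exact one_mem _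
    · exact hvA
    · exact hA v hvA
    · exact hA _ (hA v hvA)
  have hnormal_absorb : ∀ A : Subgroup G, A.Normal → V ⊓ A ≠ ⊥ → V ≤ A := fun A hA =>
    habsorb A fun a ha => hA.conj_mem a ha h
  -- the centre of `N` is trivial and `C(N) = Z(G)`
  set Y := centralizer (N : Set G) with hY
  haveI : Y.Normal := by rw [hY]; infer_instance
  have hYN : Y ⊓ N = ⊥ := by
    haveI : (Y ⊓ N).Normal := inferInstance
    refine eq_bot_of_trace_eq_bot hO S _ ?_
    by_contra hne
    obtain ⟨v, ⟨hvS, hvY, hvN⟩, hv1⟩ := ((S : Subgroup G) ⊓ (Y ⊓ N)).bot_or_exists_ne_one.resolve_left hne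
    refine hmove v (hSN ▸ ⟨hvS, hvN⟩ : v ∈ V) hv1 ?_
    rw [mul_inv_eq_iff_eq_mul]
    exact hvY h hhN
  have hYS : Y ≤ (S : Subgroup G) := by
    refine (PCore.le_pCore ?_).trans (PCore.pCore_le_sylow S)
    refine hGN.of_injective ((QuotientGroup.mk' N).comp Y.subtype) ((injective_iff_map_eq_one _).mpr fun y hy => ?_)
    have : (y : G) ∈ Y ⊓ N := ⟨y.2, (QuotientGroup.eq_one_iff _).mp hy⟩
    rw [hYN, mem_bot] at this
    exact Subtype.ext this
  have hYZ : Y = center G := by
    refine le_antisymm (fun y hy => mem_center_iff.mpr fun g => ?_) ((center_le_centralizer _).trans_eq hY.symm)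
    have h1 : ⁅g, y⁆ ∈ commutator G := commutator_mem_commutator (mem_top g) (mem_top y)
    have h2 : ⁅g, y⁆ ∈ Y := by
      rw [commutatorElement_def]
      exact mul_mem ((inferInstance : Y.Normal).conj_mem y hy g) (inv_mem hy)
    have h3 : ⁅g, y⁆ ∈ V := hG'S ▸ ⟨h1, hYS h2⟩
    have h4 : ⁅g, y⁆ ∈ Y ⊓ N := ⟨h2, hVN h3⟩
    rw [hYN, mem_bot, commutatorElement_eq_one_iff_commute] at h4
    exact h4
  have hZN : center G ⊓ N = ⊥ := hYZ ▸ hYN
  have hinN : ∀ A : Subgroup G, A.Normal → A ⊓ N = ⊥ → A ≤ center G := fun A hA h0 =>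
    (commute_of_normal_of_inf_eq_bot hA hN h0).trans hYZ.le
  -- a minimal normal subgroup inside `N`
  have hN0 : N ≠ ⊥ := fun e => by
    obtain ⟨v, hv, hv1⟩ := hexv
    exact hv1 (mem_bot.mp (e ▸ hVN hv))
  obtain ⟨M, ⟨hMn, hMN, hM0⟩, hMmin⟩ :=
    (Set.toFinite {A : Subgroup G | A.Normal ∧ A ≤ N ∧ A ≠ ⊥}).exists_minimal ⟨N, hN, le_rfl, hN0⟩
  haveI := hMn
  have hVM : V ≤ M := by
    refine hnormal_absorb M hMn fun h0 => hM0 (eq_bot_of_trace_eq_bot hO S M (le_bot_iff.mp ?_))
    rw [← h0]
    exact fun x hx => ⟨hSN ▸ ⟨hx.1, hMN hx.2⟩, hx.2⟩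
  have hSM : (S : Subgroup G) ⊓ M = V :=
    le_antisymm ((inf_le_inf_left _ hMN).trans hSN.le) (le_inf hVS hVM)
  by_cases hM2 : IsPGroup 2 M
  · -- `M = V` and `N` is `A₄`
    have hMV : M = V := by
      refine le_antisymm ?_ hVM
      rw [← hSM]
      exact le_inf ((PCore.le_pCore hM2).trans (PCore.pCore_le_sylow S)) le_rfl
    have hVn : V.Normal := hMV ▸ hMn
    haveI := hVn
    obtain ⟨v, hv, hv1⟩ := hexv
    -- centraliser of `V` in `N`
    have hDV : centralizer (V : Set G) ⊓ N ≤ V := by
      haveI : (centralizer (V : Set G)).Normal := inferInstance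
      set D := centralizer (V : Set G) ⊓ N with hD
      haveI : D.Normal := by rw [hD]; infer_instance
      obtain ⟨R, hR⟩ := exists_sylow_eq S D
      have h2 : IsPGroup 2 D := isPGroup_of_hasNormalPComplement hO D
        (hasNormalPComplement_of_small R (Or.inl fun r hr g => by
          rw [hR, mem_subgroupOf] at hr
          have hrV : (r : G) ∈ V := hSN ▸ ⟨hr, r.2.2⟩
          exact Subtype.ext (g.2.1 r hrV).symm))
      rw [← hSN]
      exact le_inf ((PCore.le_pCore h2).trans (PCore.pCore_le_sylow S)) inf_le_right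
    set V' := V.subgroupOf N with hV'
    haveI : V'.Normal := hVn.subgroupOf N
    have hV'card : Nat.card V' = 4 := (Nat.card_congr (Subgroup.subgroupOfEquivOfLe hVN).toEquiv).trans hV4
    have hVodd : Odd V'.index := by
      obtain ⟨R, hR⟩ := exists_sylow_eq S N
      have h1 := R.not_dvd_index
      rw [hR, ← inf_subgroupOf_right, hSN] at h1
      exact Nat.odd_iff.mpr (Nat.two_dvd_ne_zero.mp h1)
    have hfix : ∀ n : N, (n : G) * v * (n : G)⁻¹ = v → n ∈ V' := by
      intro n hn
      refine hDV ⟨fun w hw => ?_, n.2⟩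
      replace hw : w ∈ V := hw
      -- the permutation of the four-group induced by `n` has odd order and fixes `v`
      have hq : (n : G) ^ V'.index ∈ V := by
        have := Subgroup.pow_index_mem V' n
        rwa [hV', mem_subgroupOf] at this
      have hcomm : ∀ a ∈ V, ∀ b ∈ V, a * b = b * a := fun a ha b hb => by
        have hab := hVsq _ (mul_mem ha hb)
        have ha' := hVsq a ha
        have hb' := hVsq b hb
        rw [sq] at hab ha' hb'
        calc a * b = (a * b)⁻¹ := eq_inv_of_mul_eq_one_left hab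
          _ = b * a := by rw [mul_inv_rev, ← eq_inv_of_mul_eq_one_left hb', ← eq_inv_of_mul_eq_one_left ha']
      have hnV : ∀ x ∈ V, (n : G) * x * (n : G)⁻¹ ∈ V := fun x hx => hVn.conj_mem x hx n
      by_cases hwv : w = 1 ∨ w = v
      · rcases hwv with e | e
        · rw [e, one_mul, mul_one]
        · rw [e]; exact (mul_inv_eq_iff_eq_mul.mp hn).symm
      push Not at hwv
      -- `n` maps `w` to `w` or to the third involution
      have hsq2 : (n : G) ^ 2 * w * ((n : G) ^ 2)⁻¹ = w := by
        have key : ∀ x ∈ V, x ≠ 1 → x ≠ v → x = w ∨ x = v * w := by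
          intro x hx hx1 hxv
          have := Fintype.ofFinite G
          have hset : ({1, v, w, v * w} : Finset G) = Finset.univ.filter fun y => y ∈ V := by
            refine Finset.eq_of_subset_of_card_le ?_ ?_
            · simp [Finset.insert_subset_iff, hv, hw, mul_mem hv hw]
            · have e : (Finset.univ.filter fun y => y ∈ V).card = 4 := by
                rw [← Fintype.card_subtype, ← Nat.card_eq_fintype_card]; exact hV4
              rw [e, Finset.card_insert_of_notMem, Finset.card_insert_of_notMem, Finset.card_pair]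
              · exact fun e => hv1 (mul_eq_right.mp e.symm)
              · simp only [Finset.mem_insert, Finset.mem_singleton, not_or]
                exact ⟨hwv.2.symm, fun e => hwv.1 (mul_eq_left.mp e.symm)⟩
              · simp only [Finset.mem_insert, Finset.mem_singleton, not_or]
                refine ⟨hv1.symm, hwv.1.symm, fun e => hwv.2 ?_⟩
                have h' := hVsq v hv
                rw [sq] at h'
                exact mul_left_cancel (e.symm.trans h'.symm)
          have : x ∈ ({1, v, w, v * w} : Finset G) := by rw [hset]; simp [hx]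
          simp only [Finset.mem_insert, Finset.mem_singleton] at this
          tauto
        have hw1 : (n : G) * w * (n : G)⁻¹ ≠ 1 := fun e => hwv.1 (conj_eq_one_iff.mp e)
        have hwv' : (n : G) * w * (n : G)⁻¹ ≠ v := fun e =>
          hwv.2 ((MulAut.conj (n : G)).injective (e.trans hn.symm))
        rcases key _ (hnV w hw) hw1 hwv' with e | e
        · calc (n : G) ^ 2 * w * ((n : G) ^ 2)⁻¹ = n * (n * w * (n : G)⁻¹) * (n : G)⁻¹ := by rw [sq]; group
            _ = w := by rw [e, e]
        · calc (n : G) ^ 2 * w * ((n : G) ^ 2)⁻¹ = n * (n * w * (n : G)⁻¹) * (n : G)⁻¹ := by rw [sq]; group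
            _ = (n : G) * (v * w) * (n : G)⁻¹ := by rw [e]
            _ = ((n : G) * v * (n : G)⁻¹) * (n * w * (n : G)⁻¹) := by group
            _ = v * (v * w) := by rw [hn, e]
            _ = w := by rw [← mul_assoc, ← sq, hVsq v hv, one_mul]
      have h2 : (n : G) ^ 2 ∈ centralizer ({w} : Set G) := by
        rw [mem_centralizer_singleton_iff]
        exact mul_inv_eq_iff_eq_mul.mp hsq2
      have hq' : (n : G) ^ V'.index ∈ centralizer ({w} : Set G) := by
        rw [mem_centralizer_singleton_iff]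
        exact hcomm _ hq w hw
      obtain ⟨m, hm⟩ := hVodd
      have : (n : G) ∈ centralizer ({w} : Set G) := by
        have e : (n : G) = ((n : G) ^ 2) ^ (-(m : ℤ)) * (n : G) ^ V'.index := by
          rw [hm, ← zpow_natCast (n : G) 2, ← zpow_mul, ← zpow_natCast (n : G) (2 * m + 1), ← zpow_add]
          conv_lhs => rw [← zpow_one (n : G)]
          congr 1
          push_cast
          ring
        rw [e]
        exact mul_mem (zpow_mem h2 _) hq'
      exact (mem_centralizer_singleton_iff.mp this).symm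
    have hidx3 : V'.index = 3 := by
      have hle : V'.index ≤ 3 := by
        let g : N ⧸ V' → {w : V // w ≠ 1} :=
          Quotient.lift (fun n : N => (⟨⟨(n : G) * v * (n : G)⁻¹, hVn.conj_mem v hv n⟩,
            fun e => hv1 (conj_eq_one_iff.mp (congrArg Subtype.val e))⟩ : {w : V // w ≠ 1})) (by
            intro a b hab
            have hab' : a⁻¹ * b ∈ V' := QuotientGroup.leftRel_apply.mp hab
            have e1 : ((a : G)⁻¹ * b) * v * ((a : G)⁻¹ * b)⁻¹ = v := by
              have hu : (a : G)⁻¹ * b ∈ V := hab'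
              have hab2 := hVsq _ (mul_mem hu hv)
              have hu2 := hVsq _ hu
              have hv2 := hVsq v hv
              rw [sq] at hab2 hu2 hv2
              rw [mul_inv_eq_iff_eq_mul]
              calc (a : G)⁻¹ * b * v = ((a : G)⁻¹ * b * v)⁻¹ := eq_inv_of_mul_eq_one_left hab2
                _ = v * ((a : G)⁻¹ * b) := by
                  rw [mul_inv_rev, ← eq_inv_of_mul_eq_one_left hv2, ← eq_inv_of_mul_eq_one_left hu2]
            refine Subtype.ext (Subtype.ext ?_)
            show (a : G) * v * (a : G)⁻¹ = b * v * (b : G)⁻¹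
            conv_lhs => rw [← e1]
            group)
        have hinj : Function.Injective g := by
          intro x y
          induction x using QuotientGroup.induction_on with | _ a => ?_
          induction y using QuotientGroup.induction_on with | _ b => ?_
          intro e
          have e' : (a : G) * v * (a : G)⁻¹ = b * v * (b : G)⁻¹ :=
            congrArg (fun w : {w : V // w ≠ 1} => ((w : V) : G)) e
          refine QuotientGroup.eq.mpr (hfix _ ?_)
          show ((a : G)⁻¹ * b) * v * ((a : G)⁻¹ * b)⁻¹ = v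
          calc (a : G)⁻¹ * b * v * ((a : G)⁻¹ * b)⁻¹ = (a : G)⁻¹ * (b * v * (b : G)⁻¹) * a := by group
            _ = v := by rw [← e']; group
        have h3 : Nat.card {w : V // w ≠ 1} = 3 := by
          have := Fintype.ofFinite V
          rw [Nat.card_eq_fintype_card, Fintype.card_subtype_compl, Fintype.card_subtype_eq,
            ← Nat.card_eq_fintype_card, hV4]
        exact (Nat.card_le_card_of_injective g hinj).trans_eq h3
      have h1 : V'.index ≠ 1 := fun e => by
        have : (⟨h, hhN⟩ : N) ∈ V' := by rw [index_eq_one.mp e]; exact mem_top _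
        refine hmove v hv hv1 ?_
        have hh : h ∈ V := this
        have hab2 := hVsq _ (mul_mem hh hv)
        have hu2 := hVsq _ hh
        have hv2 := hVsq v hv
        rw [sq] at hab2 hu2 hv2
        rw [mul_inv_eq_iff_eq_mul]
        calc h * v = (h * v)⁻¹ := eq_inv_of_mul_eq_one_left hab2
          _ = v * h := by rw [mul_inv_rev, ← eq_inv_of_mul_eq_one_left hv2, ← eq_inv_of_mul_eq_one_left hu2]
      obtain ⟨m, hm⟩ := hVodd
      omega
    have hNcard : Nat.card N = 12 := by rw [← Subgroup.card_mul_index V', hV'card, hidx3]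
    haveI : Fact (Nat.Prime 3) := ⟨Nat.prime_three⟩
    have hR3 : ∀ R : Sylow 3 N, Nat.card (R : Subgroup N) = 3 := fun R => by
      rw [R.card_eq_multiplicity, hNcard]
      have : Nat.factorization 12 3 = 1 := by
        rw [show (12 : ℕ) = 3 * 4 by norm_num, Nat.factorization_mul (by norm_num) (by norm_num)]
        simp [Nat.Prime.factorization Nat.prime_three, Nat.factorization_eq_zero_of_not_dvd]
      rw [this, pow_one]
    obtain ⟨R₀⟩ := (inferInstance : Nonempty (Sylow 3 N))
    have hidxR : ∀ R : Sylow 3 N, (R : Subgroup N).index = 4 := fun R => by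
      have := Subgroup.card_mul_index (R : Subgroup N)
      rw [hR3, hNcard] at this
      omega
    have hn3 : Nat.card (Sylow 3 N) = 4 := by
      have h1 := Sylow.card_dvd_index R₀
      rw [hidxR] at h1
      have h2 := card_sylow_modEq_one 3 N
      have hle := Nat.le_of_dvd (by norm_num) h1
      have h5 : Nat.card (Sylow 3 N) ≠ 1 := fun e => by
        have : (R₀ : Subgroup N).Normal := by
          rw [← Subgroup.normalizer_eq_top_iff, ← Subgroup.index_eq_one]
          exact R₀.card_eq_index_normalizer.symm.trans e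
        have hle' : (R₀ : Subgroup N) ≤ pPrimeCore 2 N :=
          PCore.le_pPrimeCore (by rw [hR3]; norm_num)
        rw [PCore.pPrimeCore_eq_bot_of_normal N hO, le_bot_iff] at hle'
        have := hR3 R₀
        rw [hle', Subgroup.card_bot] at this
        omega
      interval_cases hc : Nat.card (Sylow 3 N) <;> simp_all [Nat.ModEq]
    let ρ : G →* Equiv.Perm (Sylow 3 N) :=
      (MulAction.toPermHom (MulAut N) (Sylow 3 N)).comp (MulAut.conjNormal (H := N))
    have hker : ρ.ker = center G := by
      apply le_antisymm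
      · refine hinN _ inferInstance ((eq_bot_iff).mpr fun x hx => ?_)
        obtain ⟨hxk, hxN⟩ := hx
        have hnorm : ∀ R : Sylow 3 N, (⟨x, hxN⟩ : N) ∈ (R : Subgroup N) := by
          intro R
          have h1 : MulAut.conj (⟨x, hxN⟩ : N) • R = R := by
            have e : MulAut.conjNormal (H := N) x = MulAut.conj (⟨x, hxN⟩ : N) := by
              ext n; simp
            rw [← e]
            exact congrArg (fun f : Equiv.Perm (Sylow 3 N) => f R) (MonoidHom.mem_ker.mp hxk)
          have h2 : (⟨x, hxN⟩ : N) ∈ normalizer ((R : Subgroup N) : Set N) :=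
            Sylow.smul_eq_iff_mem_normalizer.mp h1
          have h3 : Nat.card (normalizer ((R : Subgroup N) : Set N)) = 3 := by
            have h4 := Subgroup.card_mul_index (normalizer ((R : Subgroup N) : Set N))
            rw [show (normalizer ((R : Subgroup N) : Set N)).index = Nat.card (Sylow 3 N) from R.card_eq_index_normalizer.symm,
              hn3, hNcard] at h4
            omega
          have heq : (R : Subgroup N) = normalizer ((R : Subgroup N) : Set N) :=
            Subgroup.eq_of_le_of_card_ge le_normalizer (by rw [h3, hR3])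
          exact heq ▸ h2
        obtain ⟨R₁, R₂, hne⟩ : ∃ R₁ R₂ : Sylow 3 N, R₁ ≠ R₂ := by
          have : 1 < Nat.card (Sylow 3 N) := by omega
          haveI := Finite.one_lt_card_iff_nontrivial.mp this
          exact exists_pair_ne _
        have hint : (R₁ : Subgroup N) ⊓ R₂ = ⊥ := by
          by_contra hb
          have hd := Subgroup.card_dvd_of_le (inf_le_left : (R₁ : Subgroup N) ⊓ R₂ ≤ R₁)
          rw [hR3] at hd
          have h1 : Nat.card ((R₁ : Subgroup N) ⊓ R₂ : Subgroup N) = 3 :=
            ((Nat.prime_three.eq_one_or_self_of_dvd _ hd).resolve_left fun e => hb (Subgroup.card_eq_one.mp e))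
          have e1 : (R₁ : Subgroup N) ⊓ R₂ = R₁ := Subgroup.eq_of_le_of_card_ge inf_le_left (by rw [h1, hR3])
          have e2 : (R₁ : Subgroup N) ⊓ R₂ = R₂ := Subgroup.eq_of_le_of_card_ge inf_le_right (by rw [h1, hR3])
          exact hne (Sylow.ext (e1.symm.trans e2))
        have hmem : (⟨x, hxN⟩ : N) ∈ (R₁ : Subgroup N) ⊓ R₂ := ⟨hnorm R₁, hnorm R₂⟩
        rw [hint, mem_bot] at hmem
        exact mem_bot.mpr (congrArg Subtype.val hmem)
      · intro z hz
        have e : MulAut.conjNormal (H := N) z = 1 := by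
          ext n
          rw [MulAut.conjNormal_apply, MulAut.one_apply, ← Subgroup.mem_center_iff.mp hz (n : G), mul_inv_cancel_right]
        rw [MonoidHom.mem_ker]
        show MulAction.toPermHom (MulAut N) (Sylow 3 N) (MulAut.conjNormal (H := N) z) = 1
        rw [e, map_one]
    obtain ⟨e4⟩ : Nonempty (Sylow 3 N ≃ Fin 4) := ⟨(Finite.equivFinOfCardEq hn3)⟩
    let σ : G →* Equiv.Perm (Fin 4) := e4.permCongrHom.toMonoidHom.comp ρ
    have hσ : σ.ker = center G := by
      rw [← hker]
      ext x
      simp only [σ, MonoidHom.mem_ker, MonoidHom.comp_apply, MulEquiv.coe_toMonoidHom]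
      exact MulEquiv.map_eq_one_iff _
    let φ : G ⧸ center G ≃* σ.range :=
      (QuotientGroup.quotientMulEquivOfEq hσ.symm).trans (QuotientGroup.quotientKerEquivRange σ)
    have h12 : 12 ∣ Nat.card σ.range := by
      rw [← hNcard]
      refine Subgroup.card_dvd_of_injective (σ.rangeRestrict.comp N.subtype) ((injective_iff_map_eq_one _).mpr fun n hn => ?_)
      have h1 : (n : G) ∈ center G ⊓ N := by
        refine ⟨hσ ▸ ?_, n.2⟩
        show σ (n : G) = 1
        exact congrArg Subtype.val hn
      rw [hZN, mem_bot] at h1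
      exact Subtype.ext h1
    have h24 : Nat.card (Equiv.Perm (Fin 4)) = 24 := by simp [Nat.card_eq_fintype_card, Fintype.card_perm]; rfl
    have hcm := Subgroup.card_mul_index σ.range
    rw [h24] at hcm
    obtain ⟨d, hd⟩ := h12
    have hcases : σ.range.index = 1 ∨ σ.range.index = 2 := by
      rw [hd] at hcm
      have : d * σ.range.index = 2 := by linarith
      exact (Nat.dvd_prime Nat.prime_two).mp ⟨d, by rw [mul_comm]; exact this.symm⟩
    rcases hcases with e | e
    · exact Or.inr (Or.inl ⟨φ.trans ((MulEquiv.subgroupCongr (index_eq_one.mp e)).trans Subgroup.topEquiv)⟩)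
    · exact Or.inl ⟨φ.trans (MulEquiv.subgroupCongr (Equiv.Perm.eq_alternatingGroup_of_index_eq_two e))⟩
  -- `M` is simple
  refine Or.inr (Or.inr ?_)
  have hZM : center M = ⊥ := by
    set Z := (center M).map M.subtype with hZdef
    haveI : Z.Normal := ConjAct.normal_of_characteristic_of_normal
    by_contra hne
    have hZ0 : Z ≠ ⊥ := fun e => hne ((map_eq_bot_iff_of_injective _ M.subtype_injective).mp e)
    have hZM' : Z ≤ M := map_subtype_le _
    have hMZ : M ≤ Z := hMmin ⟨inferInstance, hZM'.trans hMN, hZ0⟩ hZM'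
    refine hM2 (isPGroup_of_hasNormalPComplement hO M ?_)
    obtain ⟨R, -⟩ := exists_sylow_eq S M
    refine hasNormalPComplement_of_small R (Or.inl fun r _ g => ?_)
    obtain ⟨r', hr', hre⟩ := hMZ r.2
    have : r' = r := Subtype.ext hre
    exact mem_center_iff.mp (this ▸ hr') g
  have hMO : pPrimeCore 2 M = ⊥ := PCore.pPrimeCore_eq_bot_of_normal M hO
  obtain ⟨RM, hRM⟩ := exists_sylow_eq S M
  have hRMcard : Nat.card (RM : Subgroup M) = 4 := by
    rw [hRM, ← inf_subgroupOf_right, hSM]
    exact (Nat.card_congr (Subgroup.subgroupOfEquivOfLe hVM).toEquiv).trans hV4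
  -- every nontrivial normal subgroup of `M` contains every conjugate of the four-group
  have hLV : ∀ L : Subgroup M, L.Normal → L ≠ ⊥ → ∀ v ∈ V, ∃ l ∈ L, (l : G) = v := by
    intro L hL hL0
    haveI := hL
    obtain ⟨R, hR⟩ := exists_sylow_eq RM L
    have hcardR : Nat.card (R : Subgroup L) = Nat.card ((RM : Subgroup M) ⊓ L : Subgroup M) := by
      rw [hR, ← inf_subgroupOf_right]
      exact Nat.card_congr (Subgroup.subgroupOfEquivOfLe inf_le_right).toEquiv
    by_cases hsmall : Nat.card (R : Subgroup L) ≤ 2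
    · exfalso
      have h2 := isPGroup_of_hasNormalPComplement hMO L (hasNormalPComplement_of_small R (Or.inr hsmall))
      obtain ⟨z, hzL, hz, hz1⟩ : ∃ z : M, z ∈ L ∧ z ∈ center M ∧ z ≠ 1 := by
        have htop : (R : Subgroup L) = ⊤ :=
          R.3 (h2.of_equiv Subgroup.topEquiv.symm) le_top |>.symm
        rw [htop, Subgroup.card_top] at hsmall
        obtain ⟨z, hzL, hz1⟩ := L.bot_or_exists_ne_one.resolve_left hL0
        refine ⟨z, hzL, mem_center_iff.mpr fun g => ?_, hz1⟩
        by_contra hne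
        have hgz : g * z * g⁻¹ ∈ L := hL.conj_mem z hzL g
        have := Fintype.ofFinite L
        have : 2 < Nat.card L := by
          rw [Nat.card_eq_fintype_card, ← Finset.card_univ, Finset.two_lt_card]
          exact ⟨1, Finset.mem_univ _, ⟨z, hzL⟩, Finset.mem_univ _, ⟨_, hgz⟩, Finset.mem_univ _,
            fun e => hz1 (congrArg Subtype.val e).symm,
            fun e => hz1 (conj_eq_one_iff.mp (congrArg Subtype.val e).symm),
            fun e => hne (mul_inv_eq_iff_eq_mul.mp (congrArg Subtype.val e).symm)⟩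
        omega
      rw [hZM, mem_bot] at hz
      contradiction
    intro v hv
    have hfull : (RM : Subgroup M) ⊓ L = RM := by
      refine Subgroup.eq_of_le_of_card_ge inf_le_left ?_
      have hd := Subgroup.card_dvd_of_le (inf_le_left : (RM : Subgroup M) ⊓ L ≤ RM)
      rw [hRMcard] at hd ⊢
      have := Nat.le_of_dvd (by norm_num) hd
      interval_cases hc : Nat.card ((RM : Subgroup M) ⊓ L : Subgroup M) <;> omega
    refine ⟨⟨v, hVM hv⟩, ?_, rfl⟩
    have hmem : (⟨v, hVM hv⟩ : M) ∈ (RM : Subgroup M) := by rw [hRM]; exact hVS hv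
    rw [← hfull] at hmem
    exact hmem.2
  haveI : Nontrivial M := (Subgroup.nontrivial_iff_ne_bot M).mpr hM0
  have hsimple : IsSimpleGroup M := by
    refine ⟨fun L hL => ?_⟩
    by_cases hL0 : L = ⊥
    · exact Or.inl hL0
    refine Or.inr ?_
    set W := normalClosure (V : Set G) with hW
    have hWM : W ≤ M := normalClosure_le_normal hVM
    obtain ⟨v, hv, hv1⟩ := hexv
    have hW0 : W ≠ ⊥ := fun e => hv1 (mem_bot.mp (e ▸ subset_normalClosure hv))
    have hMW : M ≤ W := hMmin ⟨normalClosure_normal, hWM.trans hMN, hW0⟩ hWM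
    have hWL : W ≤ L.map M.subtype := by
      rw [hW]
      refine (closure_le _).mpr ?_
      intro x hx
      rw [Group.mem_conjugatesOfSet_iff] at hx
      obtain ⟨a, ha, hax⟩ := hx
      rw [isConj_iff] at hax
      obtain ⟨g, rfl⟩ := hax
      set c := MulAut.conjNormal (H := M) g with hc
      have hL' : (L.comap c.toMonoidHom).Normal := hL.comap _
      have hL0' : L.comap c.toMonoidHom ≠ ⊥ := fun e => hL0 (by
        rw [eq_bot_iff] at e ⊢
        intro x hx
        have h1 : c.symm x ∈ L.comap c.toMonoidHom := by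
          show c (c.symm x) ∈ L
          rwa [MulEquiv.apply_symm_apply]
        have h2 := mem_bot.mp (e h1)
        rw [mem_bot, ← c.apply_symm_apply x, h2, map_one])
      obtain ⟨l, hl, hla⟩ := hLV _ hL' hL0' a ha
      refine ⟨c l, hl, ?_⟩
      show ((c l : M) : G) = _
      rw [hc, MulAut.conjNormal_apply, hla]
    rw [eq_top_iff]
    intro x _
    obtain ⟨l, hl, hlx⟩ := hWL (hMW x.2)
    exact (show l = x from Subtype.ext hlx) ▸ hl
  have hnab : ¬ IsMulCommutative M := fun hc => by
    haveI := hc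
    have : center M = ⊤ := eq_top_iff.mpr fun x _ => mem_center_iff.mpr fun y => (IsMulCommutative.is_comm.comm y x)
    rw [hZM] at this
    exact bot_ne_top this
  -- the Sylow subgroups are four-groups
  haveI hKV : IsKleinFour V := by
    refine ⟨hV4, ?_⟩
    obtain ⟨v, hv, hv1⟩ := hexv
    haveI : Nontrivial V := ⟨⟨⟨v, hv⟩, 1, fun e => hv1 (congrArg Subtype.val e)⟩⟩
    refine (Nat.prime_two.eq_one_or_self_of_dvd _ (Monoid.exponent_dvd_of_forall_pow_eq_one fun x => ?_)).resolve_left ?_
    · exact Subtype.ext (by simpa using hVsq x x.2)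
    · intro e
      refine not_subsingleton V ⟨fun a b => ?_⟩
      have key : ∀ x : V, x = 1 := fun x => by simpa [e] using Monoid.pow_exponent_eq_one x
      rw [key a, key b]
  have hd : GW.DihedralTwo M := fun R => by
    obtain ⟨e⟩ := card_sylow_trace S M R
    obtain ⟨e'⟩ := IsKleinFour.nonempty_mulEquiv (G₁ := V) (G₂ := DihedralGroup 2)
    exact ⟨2, le_rfl, ⟨e.trans ((MulEquiv.subgroupCongr hSM).trans e')⟩⟩
  have h8 : ¬ 8 ∣ Nat.card M := by
    intro h8
    have h1 := RM.not_dvd_index
    have h2 := Subgroup.card_mul_index (RM : Subgroup M)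
    rw [hRMcard] at h2
    rw [← h2] at h8
    omega
  obtain ⟨F, iF, iF', hFodd, hF3, ⟨e⟩⟩ := (hGW M hsimple hd).resolve_right fun ⟨e⟩ => h8 (by
    rw [Nat.card_congr e.toEquiv, nat_card_alternatingGroup, Nat.card_eq_fintype_card, Fintype.card_fin]
    decide)
  set π := QuotientGroup.mk' (center G) with hπ
  set S' := M.map π with hS'
  have hMinj : Function.Injective (π.comp M.subtype) := (injective_iff_map_eq_one _).mpr fun m hm => by
    have h1 : (m : G) ∈ center G ⊓ N := ⟨(QuotientGroup.eq_one_iff _).mp hm, hMN m.2⟩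
    rw [hZN, mem_bot] at h1
    exact Subtype.ext h1
  have eM : M ≃* S' := (MonoidHom.ofInjective hMinj).trans
    (MulEquiv.subgroupCongr (by rw [MonoidHom.range_comp, Subgroup.range_subtype]))
  haveI hS'n : S'.Normal := hMn.map π (QuotientGroup.mk'_surjective _)
  refine ⟨S', hS'n, ?_, ?_, ?_, F, iF, iF', hF3, ?_, ⟨eM.symm.trans e⟩⟩
  · haveI := hsimple
    haveI : Nontrivial S' := eM.toEquiv.symm.nontrivial
    exact IsSimpleGroup.isSimpleGroup_of_surjective eM.toMonoidHom eM.surjective
  · intro hc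
    haveI := hc
    exact hnab ⟨⟨fun a b => eM.injective (by rw [map_mul, map_mul]; exact IsMulCommutative.is_comm.comm _ _)⟩⟩
  · rw [eq_bot_iff]
    intro q hq
    obtain ⟨g, rfl⟩ := QuotientGroup.mk'_surjective (center G) q
    have hgM : g ∈ centralizer (M : Set G) := by
      intro m hm
      have h1 : π m * π g = π g * π m := hq (π m) ⟨m, hm, rfl⟩
      rw [← map_mul, ← map_mul] at h1
      have h2 : (g * m)⁻¹ * (m * g) ∈ center G := (QuotientGroup.eq).mp h1.symm
      have h3 : (g * m)⁻¹ * (m * g) ∈ M := by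
        rw [show (g * m)⁻¹ * (m * g) = m⁻¹ * (g⁻¹ * m * g) by group]
        exact mul_mem (inv_mem hm) (by simpa using hMn.conj_mem m hm g⁻¹)
      have h4 : (g * m)⁻¹ * (m * g) ∈ center G ⊓ N := ⟨h2, hMN h3⟩
      rw [hZN, mem_bot, inv_mul_eq_one] at h4
      exact h4.symm
    have hle : centralizer (M : Set G) ≤ center G := by
      refine hinN _ inferInstance ?_
      refine eq_bot_of_trace_eq_bot hO S _ ?_
      rw [eq_bot_iff]
      rintro x ⟨hxS, hxC, hxN⟩
      have hxV : x ∈ V := hSN ▸ ⟨hxS, hxN⟩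
      have : (⟨x, hVM hxV⟩ : M) ∈ center M := mem_center_iff.mpr fun m => Subtype.ext (hxC m m.2)
      rw [hZM, mem_bot] at this
      exact mem_bot.mpr (congrArg Subtype.val this)
    rw [mem_bot]
    exact (QuotientGroup.eq_one_iff g).mpr (hle hgM)
  · letI := iF
    letI := iF'
    have h2 := PSL2.two_mul_card_PSL (PSL2.odd_card_iff.1 hFodd)
    rw [← Nat.card_congr e.toEquiv] at h2
    by_contra hcon
    apply h8
    set q := Fintype.card F with hq
    have hq8 : q % 8 = 1 ∨ q % 8 = 7 := by
      obtain ⟨k, hk⟩ := hFodd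
      omega
    have h16 : 16 ∣ q ^ 2 - 1 := by
      have hcase : q % 16 = 1 ∨ q % 16 = 7 ∨ q % 16 = 9 ∨ q % 16 = 15 := by omega
      have hmod : q ^ 2 % 16 = 1 := by
        rcases hcase with e | e | e | e <;> rw [Nat.pow_mod, e]
      have : q ^ 2 ≠ 0 := pow_ne_zero 2 (by omega)
      omega
    obtain ⟨k, hk⟩ := h16
    rw [hk] at h2
    exact ⟨q * k, by linarith⟩

end Cfsg.Agent.ClassCount.HalfSylow
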