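import Mathlib
import Cfsg.Prelude.Def_Transfer
import Cfsg.Agent.Lib.ClassCount.Basic
import Cfsg.Agent.Lib.Transfer.Frobenius
import Cfsg.Agent.Lib.PGroup.Frattini
import Cfsg.Agent.Lib.Coprime.Commutator

/-!
Classes of 2-elements.

* `three_mul_image_le`: if an element of odd order normalises, but does not centralise, a 2-subgroup `T`,
  then `T` meets at most `|T|/2` classes.
* `hasNormalTwoComplement_of_many_classes`: `|P| < 2 k₂(G)` forces a normal 2-complement.
-/

set_option autoImplicit false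

namespace Cfsg.Agent.ClassCount

open Subgroup
open scoped Pointwise

variable {G : Type*} [Group G] [Finite G]

/-- An element of odd order normalising but not centralising a 2-subgroup `T`: the classes meeting `T`
number at most `|T|/2`. -/
theorem two_mul_image_le {T : Subgroup G} (hT : IsPGroup 2 T) {h : G}
    (hn : h ∈ normalizer (T : Set G)) (hodd : Odd (orderOf h)) (hc : h ∉ centralizer (T : Set G)) :
    2 * Nat.card (Set.range fun t : T => ConjClasses.mk (t : G)) ≤ Nat.card T := by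
  classical
  set P0 := (frattini T).map T.subtype with hP0
  have hP0n : ∀ t ∈ T, ∀ u ∈ P0, t * u * t⁻¹ ∈ P0 := by
    rintro t ht _ ⟨u, hu, rfl⟩
    exact ⟨_, (inferInstance : (frattini T).Normal).conj_mem u hu ⟨t, ht⟩, rfl⟩
  have hP0T : P0 ≤ T := map_subtype_le _
  let a : G → G := fun x => h * x * h⁻¹
  have haT : ∀ t ∈ T, a t ∈ T := fun t ht => (mem_normalizer_iff.mp hn t).mp ht
  have haP : ∀ u ∈ P0, a u ∈ P0 := by
    rintro _ ⟨u, hu, rfl⟩
    let e : T ≃* T := T.normalizerMonoidHom ⟨h, hn⟩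
    have : (frattini T).map e.toMonoidHom = frattini T := PGroup.map_frattini hT e.toMonoidHom e.surjective
    exact ⟨_, this.le ⟨u, hu, rfl⟩, rfl⟩
  -- the fixed points of `h` modulo the Frattini subgroup
  let K : Subgroup T :=
    { carrier := {t | (t : G)⁻¹ * a t ∈ P0}
      one_mem' := by simp [a]
      mul_mem' := fun {x y} hx hy => by
        simp only [Set.mem_ofPred_eq] at hx hy ⊢
        have := P0.mul_mem (hP0n _ (inv_mem y.2) _ hx) hy
        convert this using 1
        simp only [a, Subgroup.coe_mul]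
        group
      inv_mem' := fun {x} hx => by
        simp only [Set.mem_ofPred_eq] at hx ⊢
        have := hP0n _ x.2 _ (inv_mem hx)
        convert this using 1
        simp only [a, InvMemClass.coe_inv]
        group }
  have hK : K ≠ ⊤ := by
    intro e
    apply hc
    refine Coprime.le_centralizer_of_frattini (A := zpowers h) (K := T) (zpowers_le.mpr hn) ?_ ?_ (mem_zpowers h)
    · rw [Nat.card_zpowers]
      obtain ⟨k, hk⟩ := IsPGroup.iff_card.mp (hT.to_subgroup (frattini T))
      rw [hk]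
      exact Nat.Coprime.pow_right _ (Nat.coprime_two_right.mpr hodd)
    · intro x hx t ht
      obtain ⟨i, rfl⟩ := (mem_powers_iff_mem_zpowers (x := h)).mpr hx
      simp only
      clear hx
      induction i with
      | zero => simp
      | succ i ih =>
        have h1 : a t * t⁻¹ ∈ P0 := by
          have := hP0n t ht _ (e ▸ mem_top (⟨t, ht⟩ : T) : (⟨t, ht⟩ : T) ∈ K)
          convert this using 1
          simp only [a]; group
        have := P0.mul_mem (haP _ ih) h1
        convert this using 1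
        simp only [a, pow_succ']
        group
  have hK4 : 4 * Nat.card K ≤ Nat.card T := by
    obtain ⟨j, hj⟩ := hT.index K
    rw [← Subgroup.card_mul_index K, mul_comm, hj]
    refine Nat.mul_le_mul_left _ (show 2 ^ 2 ≤ 2 ^ j from Nat.pow_le_pow_right (by norm_num) ?_)
    by_contra hlt
    have hj1 : K.index = 2 := by
      rcases Nat.lt_succ_iff.mp (Nat.not_le.mp hlt) |>.lt_or_eq with h0 | h0
      · exact absurd (index_eq_one.mp (by rw [hj, Nat.lt_one_iff.mp h0, pow_zero])) hK
      · rw [hj, h0, pow_one]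
    obtain ⟨t, ht⟩ : ∃ t : T, t ∉ K := SetLike.exists_not_mem_of_ne_top K hK rfl
    -- `a` permutes `K` and its complement
    have hKa : ∀ x : T, x ∈ K → (⟨a x, haT x x.2⟩ : T) ∈ K := fun x hx => by
      have := haP _ (hx : (x : G)⁻¹ * a x ∈ P0)
      show (a x)⁻¹ * a (a x) ∈ P0
      convert this using 1
      simp only [a]; group
    have hFK : frattini T ≤ K := fun x hx => by
      show (x : G)⁻¹ * a x ∈ P0
      exact P0.mul_mem (inv_mem ⟨x, hx, rfl⟩) (haP _ ⟨x, hx, rfl⟩)
    -- `t⁻¹ h t h⁻¹ = k ∈ K`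
    let k : T := t⁻¹ * ⟨a t, haT t t.2⟩
    have hk : k ∈ K := by
      rw [Subgroup.mul_mem_iff_of_index_two hj1, inv_mem_iff]
      refine ⟨fun h1 => absurd h1 ht, fun h1 => absurd ?_ ht⟩
      -- iterate back
      have : ∀ n : ℕ, ∀ x : T, x ∈ K → ∀ hx : h ^ n * (x : G) * (h ^ n)⁻¹ ∈ T, (⟨_, hx⟩ : T) ∈ K := by
        intro n
        induction n with
        | zero => intro x hx hxT; simpa using hx
        | succ n ih =>
          intro x hx hxT
          have h2 := ih _ (hKa x hx) (by convert hxT using 1; simp only [a, pow_succ]; group)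
          convert h2 using 1
          exact Subtype.ext (by simp only [a, pow_succ]; group)
      obtain ⟨m, hm⟩ := hodd
      have h3 := this (orderOf h - 1) _ h1 (by
        have : h ^ (orderOf h - 1) = h⁻¹ := by
          refine eq_inv_of_mul_eq_one_left ?_
          rw [← pow_succ, Nat.sub_add_cancel (orderOf_pos h), pow_orderOf_eq_one]
        rw [this]; simp [a, mul_assoc])
      convert h3 using 1
      refine Subtype.ext ?_
      have : h ^ (orderOf h - 1) = h⁻¹ := by
        refine eq_inv_of_mul_eq_one_left ?_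
        rw [← pow_succ, Nat.sub_add_cancel (orderOf_pos h), pow_orderOf_eq_one]
      simp [this, a, mul_assoc]
    let π := QuotientGroup.mk' (frattini T)
    have hπa : ∀ x : T, π x = 1 → π ⟨a x, haT x x.2⟩ = 1 := fun x hx => by
      rw [QuotientGroup.mk'_apply, QuotientGroup.eq_one_iff] at hx ⊢
      obtain ⟨y, hy, hyx⟩ := haP _ ⟨x, hx, rfl⟩
      have : y = ⟨a x, haT x x.2⟩ := Subtype.ext hyx
      exact this ▸ hy
    have hfix : π ⟨a k, haT k k.2⟩ = π k := by
      obtain ⟨y, hy, hyx⟩ := (hk : (k : G)⁻¹ * a k ∈ P0)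
      have : y = k⁻¹ * ⟨a k, haT k k.2⟩ := Subtype.ext hyx
      subst this
      rw [← inv_mul_eq_one, eq_comm, ← map_inv, ← map_mul, QuotientGroup.mk'_apply, eq_comm, QuotientGroup.eq_one_iff]
      have h2 := (frattini T).inv_mem hy
      rwa [mul_inv_rev, inv_inv] at h2
    have hiter : ∀ n : ℕ, ∀ hx : h ^ n * (t : G) * (h ^ n)⁻¹ ∈ T, π ⟨_, hx⟩ = π t * π k ^ n := by
      intro n
      induction n with
      | zero => intro hx; simp only [pow_zero, mul_one]; exact congrArg π (Subtype.ext (by simp))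
      | succ n ih =>
        intro hx
        have hx' : h ^ n * (t : G) * (h ^ n)⁻¹ ∈ T := (mem_normalizer_iff.mp (pow_mem hn n) t).mp t.2
        have e1 := ih hx'
        have e2 : π ((⟨_, hx'⟩ : T)⁻¹ * (t * k ^ n)) = 1 := by rw [map_mul, map_inv, map_mul, map_pow, e1, inv_mul_cancel]
        have e3 := hπa _ e2
        have e4 : ∀ x y : T, (⟨a (x * y : T), haT _ (x * y).2⟩ : T) = ⟨a x, haT x x.2⟩ * ⟨a y, haT y y.2⟩ :=
          fun x y => Subtype.ext (by simp only [a, Subgroup.coe_mul]; group)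
        have e5 : π ⟨a (k ^ n : T), haT _ (k ^ n).2⟩ = π k ^ n := by
          rw [show (⟨a (k ^ n : T), haT _ (k ^ n).2⟩ : T) = ⟨a k, haT k k.2⟩ ^ n from
            Subtype.ext (by simp only [a, SubmonoidClass.coe_pow]; rw [conj_pow]), map_pow, hfix]
        have e6 : π ⟨a t, haT t t.2⟩ = π t * π k := by rw [← map_mul]; exact congrArg π (by simp [k])
        have e7 : π ⟨a ((⟨_, hx'⟩ : T)⁻¹ : T), haT _ ((⟨_, hx'⟩ : T)⁻¹).2⟩ = (π ⟨_, hx⟩)⁻¹ := by
          rw [← map_inv]
          exact congrArg π (Subtype.ext (by simp only [a, pow_succ', InvMemClass.coe_inv]; group))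
        rw [e4, map_mul, e4, map_mul, e5, e6, e7, inv_mul_eq_one] at e3
        rw [e3, pow_succ', mul_assoc]
    have h1 := hiter (orderOf h) (by simp [pow_orderOf_eq_one])
    have h2 : π k ^ orderOf h = 1 := by
      have : π t * π k ^ orderOf h = π t * 1 := by
        exact h1.symm.trans ((congrArg π (Subtype.ext (by simp [pow_orderOf_eq_one]))).trans (mul_one _).symm)
      exact mul_left_cancel this
    have h3 : π k ^ 2 = 1 := by
      rw [← map_pow, QuotientGroup.mk'_apply, QuotientGroup.eq_one_iff]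
      exact PGroup.pow_mem_frattini hT k
    have h4 : π k = 1 := orderOf_eq_one_iff.mp (Nat.eq_one_of_dvd_coprimes (Nat.coprime_two_right.mpr hodd)
      (orderOf_dvd_of_pow_eq_one h2) (orderOf_dvd_of_pow_eq_one h3))
    exact ht ⟨k, (QuotientGroup.eq_one_iff k).mp h4, by simp [k]⟩
  -- fibres outside `K` have at least three elements
  have hfib := mul_card_range_le (fun t : T => (⟨ConjClasses.mk (t : G), t, rfl⟩ : Set.range fun t : T => ConjClasses.mk (t : G)))
    (fun ⟨c, t, ht⟩ => ⟨t, Subtype.ext ht⟩) 3 (K : Set T) fun t ht => by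
    let t1 : T := ⟨a t, haT t t.2⟩
    let t2 : T := ⟨a (a t), haT _ (haT t t.2)⟩
    have hm : ∀ x : T, IsConj (t : G) x → (⟨ConjClasses.mk (x : G), x, rfl⟩ : Set.range fun t : T => ConjClasses.mk (t : G)) = ⟨ConjClasses.mk (t : G), t, rfl⟩ :=
      fun x hx => Subtype.ext (ConjClasses.mk_eq_mk_iff_isConj.mpr hx.symm)
    have d1 : t1 ≠ t := fun e => ht (by
      show (t : G)⁻¹ * a t ∈ P0
      rw [show a t = (t : G) from congrArg Subtype.val e, inv_mul_cancel]; exact one_mem P0)
    have d2 : t2 ≠ t1 := fun e => d1 (Subtype.ext ((MulAut.conj h).injective (congrArg Subtype.val e)))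
    have d3 : t2 ≠ t := fun e => d1 (Subtype.ext (by
      have h1 : h ^ 2 ∈ centralizer ({(t : G)} : Set G) := by
        rw [mem_centralizer_singleton_iff]
        have := congrArg Subtype.val e
        simp only [t2, a] at this
        have h' := congrArg (· * (h * h)) this
        rw [sq]
        simpa [mul_assoc] using h'
      obtain ⟨m, hm⟩ := hodd
      have h2 : h ∈ centralizer ({(t : G)} : Set G) := by
        have : (h ^ 2) ^ (m + 1) = h := by
          rw [← pow_mul, show 2 * (m + 1) = orderOf h + 1 by omega, pow_succ, pow_orderOf_eq_one, one_mul]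
        exact this ▸ pow_mem h1 _
      rw [mem_centralizer_singleton_iff] at h2
      show a t = (t : G)
      simp [a, h2]))
    let v : Fin 3 → {b : T // (⟨ConjClasses.mk (b : G), b, rfl⟩ : Set.range fun t : T => ConjClasses.mk (t : G)) = ⟨ConjClasses.mk (t : G), t, rfl⟩} :=
      ![⟨t, rfl⟩, ⟨t1, hm _ (isConj_iff.mpr ⟨h, rfl⟩)⟩,
        ⟨t2, hm _ (isConj_iff.mpr ⟨h * h, by simp [t2, a, mul_assoc]⟩)⟩]
    refine le_trans (le_of_eq (by simp)) (Nat.card_le_card_of_injective v ?_)
    intro i j hij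
    have h' := congrArg (fun b => (b.1 : T)) hij
    fin_cases i <;> fin_cases j <;> first
      | rfl
      | exact absurd h' d1 | exact absurd h'.symm d1 | exact absurd h' d2 | exact absurd h'.symm d2
      | exact absurd h' d3 | exact absurd h'.symm d3
  change 3 * Nat.card (Set.range fun t : T => ConjClasses.mk (t : G)) ≤ Nat.card T + (3 - 1) * Nat.card K at hfib
  omega

/-- In a group without normal 2-complement some odd element normalises, without centralising, a subgroup
of a Sylow 2-subgroup containing its centre. -/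
theorem exists_acting_of_not_hasNormalPComplement (h : ¬ Cfsg.HasNormalPComplement 2 G) :
    ∃ (S : Sylow 2 G) (T : Subgroup G) (g : G), T ≤ (S : Subgroup G) ∧
      (S : Subgroup G) ⊓ centralizer ((S : Subgroup G) : Set G) ≤ T ∧
      g ∈ normalizer (T : Set G) ∧ Odd (orderOf g) ∧ g ∉ centralizer (T : Set G) := by
  classical
  obtain ⟨P⟩ := (inferInstance : Nonempty (Sylow 2 G))
  by_contra hne
  refine h (Transfer.hasNormalPComplement_of_centralizer P fun Q hQ g hg hco => ?_)
  set C := centralizer (Q : Set G) with hC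
  have hCn : ∀ n ∈ normalizer (Q : Set G), ∀ x ∈ C, n * x * n⁻¹ ∈ C := by
    intro n hn x hx
    rw [hC, mem_centralizer_iff] at hx ⊢
    intro q hq
    have := hx _ ((mem_normalizer_iff''.mp hn q).mp hq)
    calc q * (n * x * n⁻¹) = n * ((n⁻¹ * q * n) * x) * n⁻¹ := by group
      _ = n * (x * (n⁻¹ * q * n)) * n⁻¹ := by rw [this]
      _ = n * x * n⁻¹ * q := by group
  obtain ⟨R⟩ := (inferInstance : Nonempty (Sylow 2 C))
  set R' := (R : Subgroup C).map C.subtype with hR'
  have hRC : R' ≤ C := map_subtype_le _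
  have hp : IsPGroup 2 ↥(R' ⊔ Q) := by
    refine (R.2.map C.subtype).to_sup_of_normal_left' (P.2.to_le hQ) fun q hq => ?_
    refine centralizer_le_normalizer _ ?_
    rw [mem_centralizer_iff]
    exact fun r hr => (mem_centralizer_iff.mp (hRC hr) q hq).symm
  obtain ⟨S, hS⟩ := hp.exists_le_sylow
  have hZ : (S : Subgroup G) ⊓ centralizer ((S : Subgroup G) : Set G) ≤ R' := by
    intro x hx
    have h1 : (R : Subgroup C) ≤ (S : Subgroup G).subgroupOf C := fun r hr =>
      hS (mem_sup_left ⟨r, hr, rfl⟩)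
    have h2 := R.3 (S.2.comap_of_injective _ C.subtype_injective) h1
    have hxC : x ∈ C := centralizer_le (SetLike.coe_subset_coe.mpr ((le_sup_right : Q ≤ R' ⊔ Q).trans hS)) hx.2
    exact ⟨⟨x, hxC⟩, h2 ▸ (show (⟨x, hxC⟩ : C) ∈ (S : Subgroup G).subgroupOf C from hx.1), rfl⟩
  have hR2p : IsPGroup 2 ↥((R'.map (MulAut.conj g).toMonoidHom).subgroupOf C) :=
    ((R.2.map C.subtype).map (MulAut.conj g).toMonoidHom).comap_of_injective _ C.subtype_injective
  obtain ⟨U, hU⟩ := hR2p.exists_le_sylow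
  obtain ⟨c, rfl⟩ := MulAction.exists_smul_eq C R U
  set n := (c : G)⁻¹ * g with hn
  have hnN : n ∈ normalizer (Q : Set G) := mul_mem (inv_mem (centralizer_le_normalizer _ c.2)) hg
  have hnR : ∀ r ∈ R', n * r * n⁻¹ ∈ R' := by
    intro r hr
    have hm : g * r * g⁻¹ ∈ C := hCn g hg r (hRC hr)
    have h1 : (⟨g * r * g⁻¹, hm⟩ : C) ∈ ((c • R : Sylow 2 C) : Subgroup C) := hU ⟨r, hr, rfl⟩
    rw [Sylow.coe_subgroup_smul, Coprime.mem_conj_smul_iff] at h1
    exact ⟨_, h1, by simp [hn, mul_assoc]⟩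
  have hnV : ∀ x ∈ R' ⊔ Q, n * x * n⁻¹ ∈ R' ⊔ Q := by
    intro x hx
    have h1 : (MulAut.conj n).toMonoidHom x ∈ (R' ⊔ Q).map (MulAut.conj n).toMonoidHom := ⟨x, hx, rfl⟩
    rw [Subgroup.map_sup] at h1
    refine (sup_le_sup ?_ ?_ : _ ≤ R' ⊔ Q) h1
    · rintro _ ⟨u, hu, rfl⟩; exact hnR u hu
    · rintro _ ⟨u, hu, rfl⟩; exact (mem_normalizer_iff.mp hnN u).mp hu
  have hnT : n ∈ normalizer ((R' ⊔ Q : Subgroup G) : Set G) := by
    rw [mem_normalizer_iff]
    refine fun x => ⟨hnV x, fun hx => ?_⟩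
    have hle : (R' ⊔ Q).map (MulAut.conj n).toMonoidHom ≤ R' ⊔ Q := by
      rintro _ ⟨y, hy, rfl⟩; exact hnV y hy
    rw [← Subgroup.eq_of_le_of_card_ge hle (le_of_eq (Subgroup.card_map_of_injective (MulAut.conj n).injective).symm)] at hx
    obtain ⟨y, hy, hyx⟩ := hx
    exact (show y = x by simpa using hyx) ▸ hy
  -- odd powers of `n` centralise `Q`, hence `g` does
  obtain ⟨i, m, hm, hnm⟩ := Nat.exists_eq_pow_mul_and_not_dvd (orderOf_pos n).ne' 2 (by norm_num)
  have hnC : n ^ 2 ^ i ∈ C := by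
    by_contra hnot
    refine hne ⟨S, R' ⊔ Q, n ^ 2 ^ i, hS, hZ.trans le_sup_left, pow_mem hnT _, ?_, fun hcen => hnot
      (centralizer_le (SetLike.coe_subset_coe.mpr (le_sup_right : Q ≤ R' ⊔ Q)) hcen)⟩
    refine Odd.of_dvd_nat (Nat.odd_iff.mpr (Nat.two_dvd_ne_zero.mp hm)) (orderOf_dvd_of_pow_eq_one ?_)
    rw [← pow_mul, ← hnm, pow_orderOf_eq_one]
  set N := normalizer (Q : Set G)
  let CN := C.subgroupOf N
  have : CN.Normal := ⟨fun x hx y => hCn y y.2 x hx⟩
  have e1 : (QuotientGroup.mk (⟨g, hg⟩ : N) : ↥N ⧸ CN) = QuotientGroup.mk ⟨n, hnN⟩ := by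
    rw [show (⟨g, hg⟩ : N) = ⟨c, centralizer_le_normalizer _ c.2⟩ * ⟨n, hnN⟩ from Subtype.ext (by simp [hn]),
      QuotientGroup.mk_mul, (QuotientGroup.eq_one_iff (⟨c, centralizer_le_normalizer _ c.2⟩ : N)).mpr c.2, one_mul]
  have e2 : (QuotientGroup.mk (⟨g, hg⟩ : N) : ↥N ⧸ CN) ^ 2 ^ i = 1 := by
    rw [e1, ← QuotientGroup.mk_pow, QuotientGroup.eq_one_iff]; exact hnC
  have e3 : orderOf (QuotientGroup.mk (⟨g, hg⟩ : N) : ↥N ⧸ CN) ∣ orderOf g :=
    (orderOf_map_dvd (QuotientGroup.mk' CN) _).trans (Subgroup.orderOf_mk g hg).dvd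
  exact (QuotientGroup.eq_one_iff (⟨g, hg⟩ : N)).mp (orderOf_eq_one_iff.mp
    (Nat.eq_one_of_dvd_coprimes (Nat.Coprime.pow_right i hco) e3 (orderOf_dvd_of_pow_eq_one e2)))

/-- `|P| < 2 k₂(G)` forces a normal 2-complement. -/
theorem hasNormalTwoComplement_of_many_classes (P : Sylow 2 G)
    (h : Nat.card (P : Subgroup G) < 2 * piClassCount {2} G) : Cfsg.HasNormalPComplement 2 G := by
  classical
  by_contra hne
  obtain ⟨S, T, g, hTS, hZT, hg, hodd, hgc⟩ := exists_acting_of_not_hasNormalPComplement hne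
  rw [P.card_eq_multiplicity, ← S.card_eq_multiplicity, piClassCount_singleton Nat.prime_two] at h
  have h1 := two_mul_image_le (S.2.to_le hTS) hg hodd hgc
  let C := {c : ConjClasses G // ∀ y ∈ c.carrier, ∃ k : ℕ, orderOf y = 2 ^ k}
  let A : Set C := {c | c.1 ∈ Set.range fun t : T => ConjClasses.mk (t : G)}
  have h2 : Nat.card A ≤ Nat.card (Set.range fun t : T => ConjClasses.mk (t : G)) :=
    Nat.card_le_card_of_injective (fun c => ⟨c.1.1, c.2⟩) fun a b e => by
      have := congrArg Subtype.val e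
      exact Subtype.ext (Subtype.ext this)
  let B := {x : (S : Subgroup G) // sylowClassMap S x ∉ A}
  have h3 : 2 * Nat.card (Aᶜ : Set C) ≤ Nat.card B := by
    have hs : Function.Surjective (fun x : B => (⟨sylowClassMap S x.1, x.2⟩ : (Aᶜ : Set C))) := fun ⟨c, hc⟩ => by
      obtain ⟨x, rfl⟩ := sylowClassMap_surjective S c
      exact ⟨⟨x, hc⟩, rfl⟩
    have := mul_card_range_le _ hs 2 (∅ : Set B) fun x _ => by
      have hx : (x.1 : G) ∉ T := fun hxT => x.2 ⟨⟨_, hxT⟩, rfl⟩
      obtain ⟨y, hy, hyx⟩ : ∃ y : (S : Subgroup G), y.1 * x.1.1 * y.1⁻¹ ≠ x.1.1 ∧ True := by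
        by_contra hall
        simp only [ne_eq, and_true, not_exists, not_not] at hall
        exact hx (hZT ⟨x.1.2, fun y hy => mul_inv_eq_iff_eq_mul.mp (hall ⟨y, hy⟩)⟩)
      let x' : (S : Subgroup G) := y * x.1 * y⁻¹
      have hxe : sylowClassMap S x' = sylowClassMap S x.1 := Subtype.ext
        (ConjClasses.mk_eq_mk_iff_isConj.mpr (isConj_iff.mpr ⟨(y : G)⁻¹, by simp [x', mul_assoc]⟩))
      have : Nontrivial {b : B // (⟨sylowClassMap S b.1, b.2⟩ : (Aᶜ : Set C)) = ⟨sylowClassMap S x.1, x.2⟩} :=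
        ⟨⟨⟨x', hxe ▸ x.2⟩, Subtype.ext hxe⟩, ⟨x, rfl⟩, fun e => hy (congrArg (fun b => ((b.1.1 : (S : Subgroup G)) : G)) e)⟩
      exact Finite.one_lt_card
    simp only [Nat.card_of_isEmpty, mul_zero, add_zero] at this
    exact this
  have h4 : Nat.card B + Nat.card T ≤ Nat.card (S : Subgroup G) := by
    have := Nat.card_le_card_of_injective (Sum.elim (fun b : B => b.1) (fun t : T => ⟨t, hTS t.2⟩) :
        B ⊕ T → (S : Subgroup G))
      (Function.Injective.sumElim Subtype.val_injective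
        (fun a b e => Subtype.ext (congrArg (fun z : (S : Subgroup G) => (z : G)) e))
        fun b t e => b.2 ⟨t, (congrArg (fun z : (S : Subgroup G) => ConjClasses.mk (z : G)) e).symm⟩)
    rwa [Nat.card_sum] at this
  have h5 : Nat.card C = Nat.card A + Nat.card (Aᶜ : Set C) := by
    rw [← Nat.card_congr (Equiv.Set.sumCompl A), Nat.card_sum]
  change Nat.card (S : Subgroup G) < 2 * Nat.card C at h
  omega

end Cfsg.Agent.ClassCount
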